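import Cfsg.Agent.Lib.LocalEven.DihedralPushUp.Intervals

/-!
The bound `|P| ≤ 16` for a `2`-group `P` with an element `g` shifting it and an element `y`
normalising it.
-/

set_option autoImplicit false

namespace CfsgLib.LocalEven.DihedralPushUp

open Subgroup
open scoped commutatorElement

variable {G : Type*} [Group G] [Finite G]

theorem half_cases {A B : Subgroup G} (hAB : A ≤ B) (h : Nat.card B = 2 * Nat.card A) {c w : G}
    (hc : c ∈ B) (hcA : c ∉ A) (hw : w ∈ B) : w ∈ A ∨ c * w ∈ A := by
  have h2 : (A.subgroupOf B).index = 2 := by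
    have := (A.subgroupOf B).card_mul_index
    rw [Nat.card_congr (Subgroup.subgroupOfEquivOfLe hAB).toEquiv, h, mul_comm 2] at this
    exact mul_left_cancel₀ Nat.card_pos.ne' this
  have := Subgroup.mul_mem_iff_of_index_two h2 (a := ⟨c, hc⟩) (b := ⟨w, hw⟩)
  simp only [mem_subgroupOf, Submonoid.coe_mul, MulMemClass.mk_mul_mk] at this
  tauto

theorem W_comm {g x z : G} {i j : ℕ} (h : ∀ k, i ≤ k → k < j → Commute z (cx g x k)) {w : G}
    (hw : w ∈ W g x i j) : Commute z w := by
  have : W g x i j ≤ centralizer ({z} : Set G) :=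
    W_le fun k a b => mem_centralizer_singleton_iff.2 (h k a b).symm.eq
  exact (mem_centralizer_singleton_iff.1 (this hw)).symm

theorem cx_shift (g x : G) (i k : ℕ) : MulAut.conj (g ^ i) (cx g x k) = cx g x (i + k) := by
  rw [MulAut.conj_apply]; simp only [cx, pow_add, mul_inv_rev]; group

/-- Hypotheses. -/
structure Ctx (P H : Subgroup G) (g y : G) : Prop where
  two : IsPGroup 2 P
  half : Nat.card P = 2 * Nat.card ↥(P ⊓ cnj g P)
  gen : H = P ⊔ cnj g P
  dmem : g * y⁻¹ ∈ H
  qnormal : ∀ h ∈ H, ∀ q ∈ P ⊓ cnj g P, h * q * h⁻¹ ∈ P ⊓ cnj g P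
  qne : P ⊓ cnj g P ≠ ⊥
  yP : cnj y P = P
  ysq : ∀ u ∈ P, ∃ p ∈ P, y * y * u * (y * y)⁻¹ = p * u * p⁻¹
  core : ∀ K ≤ P, (∀ h ∈ H, ∀ k ∈ K, h * k * h⁻¹ ∈ K) → cnj y K = K → K = ⊥

variable {P H : Subgroup G} {g y : G}

theorem Ctx.cnj_eq_self (hC : Ctx P H g y) {K : Subgroup G}
    (hK : ∀ h ∈ H, ∀ k ∈ K, h * k * h⁻¹ ∈ K) {d : G} (hd : d ∈ H) : cnj d K = K := by
  refine eq_of_le_of_card_ge (fun u hu => ?_) (by rw [card_cnj])
  have := hK d hd _ (mem_cnj.1 hu)
  simpa [mul_assoc] using this

theorem Ctx.base (hC : Ctx P H g y) : Base P g := by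
  refine ⟨hC.two, hC.half, fun K hKP hgK hPK => ?_⟩
  have hH : ∀ h ∈ H, ∀ k ∈ K, h * k * h⁻¹ ∈ K := by
    have hle : H ≤ normalizer (K : Set G) := by
      have hP : P ≤ normalizer (K : Set G) := fun p hp => mem_normalizer_iff.2 fun h =>
        ⟨fun hh => hPK p hp h hh, fun hh => by
          simpa [mul_assoc] using hPK p⁻¹ (inv_mem hp) _ hh⟩
      rw [hC.gen]
      refine sup_le hP fun u hu => mem_normalizer_iff.2 fun h => ?_
      have h1 := mem_normalizer_iff.1 (hP (mem_cnj.1 hu)) (g⁻¹ * h * g)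
      have e : ∀ v, v ∈ K ↔ g⁻¹ * v * g ∈ K := fun v => by rw [← mem_cnj, hgK]
      rw [← e] at h1
      rw [h1, e (u * h * u⁻¹)]
      simp [mul_assoc]
    exact fun h hh k hk => (mem_normalizer_iff.1 (hle hh) k).1 hk
  refine hC.core K hKP hH ?_
  conv_lhs => rw [show y = (g * y⁻¹)⁻¹ * g by group, ← cnj_cnj, hgK]
  exact hC.cnj_eq_self hH (inv_mem hC.dmem)

/-- For `K ≤ P` normalised by `H`, the intersection `K ∩ g⁻¹Kg` is normalised by `y`. -/
theorem Ctx.cnj_inter (hC : Ctx P H g y) {K : Subgroup G} (hKP : K ≤ P)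
    (hK : ∀ h ∈ H, ∀ k ∈ K, h * k * h⁻¹ ∈ K) :
    cnj y (K ⊓ cnj g⁻¹ K) = K ⊓ cnj g⁻¹ K := by
  have h1 : cnj y⁻¹ K = cnj g⁻¹ K := by
    rw [show y⁻¹ = g⁻¹ * (g * y⁻¹) by group, ← cnj_cnj, hC.cnj_eq_self hK hC.dmem]
  have h2 : cnj (y * y) K = K := by
    refine eq_of_le_of_card_ge (fun u hu => ?_) (by rw [card_cnj])
    have hk := mem_cnj.1 hu
    obtain ⟨p, hp, he⟩ := hC.ysq _ (hKP hk)
    have : u = p * ((y * y)⁻¹ * u * (y * y)) * p⁻¹ := by rw [← he]; group
    rw [this]
    exact hK p (hC.gen ▸ mem_sup_left hp) _ hk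
  have h3 : cnj y K = cnj y⁻¹ K := by
    conv_rhs => rw [← h2, cnj_cnj, show y⁻¹ * (y * y) = y by group]
  rw [cnj_inf, ← h1, cnj_cnj, mul_inv_cancel, cnj_one, h3, inf_comm]

/-- A chain together with the commuting distance `a`. -/
structure Dist (P : Subgroup G) (g x : G) (s a : ℕ) : Prop extends Sims P g x s where
  a_pos : 1 ≤ a
  a_le : a ≤ s
  comm : ∀ i j, i ≤ j → j < i + a → Commute (cx g x i) (cx g x j)
  ncomm : a < s → ∀ i, ¬ Commute (cx g x i) (cx g x (i + a))

theorem exists_dist {x : G} {s : ℕ} (hs : 1 ≤ s) (h : Sims P g x s) : ∃ a, Dist P g x s a := by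
  classical
  have hex : ∃ k, 1 ≤ k ∧ (k = s ∨ ¬ Commute (cx g x 0) (cx g x k)) := ⟨s, hs, Or.inl rfl⟩
  have hshift : ∀ i k, cx g x (i + k) = MulAut.conj (g ^ i) (cx g x k) := fun i k =>
    (cx_shift g x i k).symm
  have hle : Nat.find hex ≤ s := Nat.find_le ⟨hs, Or.inl rfl⟩
  refine ⟨Nat.find hex, ⟨h, (Nat.find_spec hex).1, hle, fun i j hij hj => ?_, fun hlt i => ?_⟩⟩
  · obtain ⟨k, rfl⟩ : ∃ k, j = i + k := ⟨j - i, by omega⟩
    rcases Nat.eq_zero_or_pos k with rfl | hk
    · rw [Nat.add_zero]
    · have hmin := Nat.find_min hex (show k < Nat.find hex by omega)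
      push Not at hmin
      have h0 := (hmin hk).2
      conv => lhs; rw [show i = i + 0 from rfl, hshift]
      rw [hshift]
      exact h0.map _
  · intro hc
    have h0 : ¬ Commute (cx g x 0) (cx g x (Nat.find hex)) :=
      (Nat.find_spec hex).2.resolve_left (by omega)
    rw [hshift i (Nat.find hex), show cx g x i = MulAut.conj (g ^ i) (cx g x 0) by
      rw [← hshift]; rfl] at hc
    exact h0 (Commute.of_map (MulAut.conj (g ^ i)).injective hc)

namespace Dist

variable {x : G} {s a : ℕ} (D : Dist P g x s a)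
include D

theorem comm' (i j : ℕ) (h1 : i < j + a) (h2 : j < i + a) : Commute (cx g x i) (cx g x j) :=
  (le_total i j).elim (fun h => D.comm i j h h2) fun h => (D.comm j i h h1).symm

theorem sq (k : ℕ) : cx g x k * cx g x k = 1 := by
  have h := D.card k (k + 1) (by omega) (by have := D.a_pos; have := D.a_le; omega)
  rw [show k + 1 - k = 1 by omega, pow_one] at h
  have := orderOf_dvd_natCard (⟨_, cx_mem_W (g := g) (x := x) le_rfl (by omega)⟩ : W g x k (k + 1))
  rw [h, orderOf_dvd_iff_pow_eq_one, pow_two] at this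
  exact congrArg Subtype.val this

theorem inv_eq (k : ℕ) : (cx g x k)⁻¹ = cx g x k := inv_eq_of_mul_eq_one_right (D.sq k)

theorem half_left {i j : ℕ} (h : i < j) (hj : j ≤ i + s) :
    Nat.card (W g x i j) = 2 * Nat.card (W g x (i + 1) j) := by
  rw [D.card _ _ h.le hj, D.card _ _ h (by omega), ← pow_succ']
  congr 1; omega

theorem half_right {i j : ℕ} (h : i ≤ j) (hj : j + 1 ≤ i + s) :
    Nat.card (W g x i (j + 1)) = 2 * Nat.card (W g x i j) := by
  rw [D.card _ _ (by omega) hj, D.card _ _ h (by omega), ← pow_succ']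
  congr 1; omega

theorem left_notMem {i j : ℕ} (h : i < j) (hj : j ≤ i + s) : cx g x i ∉ W g x (i + 1) j := by
  intro hc
  have : W g x i j ≤ W g x (i + 1) j := W_le fun k a b => by
    rcases Nat.eq_or_lt_of_le a with rfl | h'
    · exact hc
    · exact cx_mem_W h' b
  have := Subgroup.card_le_of_le this
  have h2 := D.half_left h hj
  have h3 : 0 < Nat.card (W g x (i + 1) j) := Nat.card_pos
  omega

theorem right_notMem {i j : ℕ} (h : i ≤ j) (hj : j + 1 ≤ i + s) : cx g x j ∉ W g x i j := by
  intro hc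
  have : W g x i (j + 1) ≤ W g x i j := W_le fun k a b => by
    rcases Nat.eq_or_lt_of_le (Nat.le_of_lt_succ b) with rfl | h'
    · exact hc
    · exact cx_mem_W a h'
  have := Subgroup.card_le_of_le this
  have h2 := D.half_right h hj
  have h3 : 0 < Nat.card (W g x i j) := Nat.card_pos
  omega

/-- The commutator of two conjugates lies strictly between them. -/
theorem comm_mem {i j : ℕ} (h : i < j) (hj : j + 1 ≤ i + s) :
    ⁅cx g x i, cx g x j⁆ ∈ W g x (i + 1) j := by
  rw [← D.inter i j h (by omega), mem_inf]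
  constructor
  · rw [commutatorElement_def, show cx g x i * cx g x j * (cx g x i)⁻¹ * (cx g x j)⁻¹
      = cx g x i * (cx g x j * (cx g x i)⁻¹ * (cx g x j)⁻¹) by group]
    exact mul_mem (cx_mem_W le_rfl h) (conj_mem_of_half (W_mono le_rfl (by omega))
      (D.half_right h.le hj) (cx_mem_W h.le (by omega)) (inv_mem (cx_mem_W le_rfl h)))
  · rw [commutatorElement_def]
    exact mul_mem (conj_mem_of_half (W_mono (by omega) le_rfl) (D.half_left (by omega) hj)
      (cx_mem_W le_rfl (by omega)) (cx_mem_W h (by omega))) (inv_mem (cx_mem_W h (by omega)))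

theorem w_ne_one (ha : a < s) (i : ℕ) : ⁅cx g x i, cx g x (i + a)⁆ ≠ 1 :=
  fun h => D.ncomm ha i (commutatorElement_eq_one_iff_mul_comm.1 h)

theorem descent_left (ha : a < s) : ∀ r, 1 ≤ r → r ≤ a → r ≤ s - a →
    ⁅cx g x 0, cx g x a⁆ ∈ W g x r a := by
  intro r hr
  induction r, hr using Nat.le_induction with
  | base => intro _ _; simpa using D.comm_mem (i := 0) (j := a) D.a_pos (by omega)
  | succ r hr ih =>
    intro h1 h2
    have hw := ih (by omega) (by omega)
    set w := ⁅cx g x 0, cx g x a⁆ with hwdef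
    rcases half_cases (W_mono (by omega) le_rfl) (D.half_left (i := r) (j := a) (by omega)
      (by omega)) (cx_mem_W le_rfl (by omega)) (D.left_notMem (by omega) (by omega)) hw with h | h
    · exact h
    exfalso
    set z := cx g x (r + a) with hz
    set e := ⁅z, cx g x 0⁆ with he
    have hem : e ∈ W g x 1 (r + a) := by
      rw [he, ← commutatorElement_inv, inv_mem_iff]
      simpa using D.comm_mem (i := 0) (j := r + a) (by omega) (by omega)
    have he1 : Commute e (cx g x a) :=
      (W_comm (fun k _ _ => D.comm' a k (by omega) (by omega)) hem).symm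
    have he2 : Commute e w := (W_comm (fun k k1 k2 => (W_comm (fun m m1 m2 =>
      D.comm' k m (by omega) (by omega)) hw).symm) hem).symm
    have hzw : z * w * z⁻¹ = w := by
      have e0 : MulAut.conj z (cx g x 0) = e * cx g x 0 := by
        rw [MulAut.conj_apply, he, commutatorElement_def]; group
      have ea : MulAut.conj z (cx g x a) = cx g x a := by
        rw [MulAut.conj_apply, (D.comm' (r + a) a (by omega) (by omega)).eq, mul_inv_cancel_right]
      rw [← MulAut.conj_apply, hwdef, map_commutatorElement, e0, ea]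
      calc ⁅e * cx g x 0, cx g x a⁆ = e * w * cx g x a * e⁻¹ * (cx g x a)⁻¹ := by
            rw [hwdef, commutatorElement_def, commutatorElement_def]; group
        _ = e * w * (cx g x a * e⁻¹) * (cx g x a)⁻¹ := by group
        _ = e * w * (e⁻¹ * cx g x a) * (cx g x a)⁻¹ := by rw [(he1.inv_left).eq]
        _ = e * w * e⁻¹ := by group
        _ = w := by rw [he2.eq, mul_inv_cancel_right]
    have h3 : Commute z (cx g x r * w) :=
      W_comm (fun k k1 k2 => D.comm' (r + a) k (by omega) (by omega)) h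
    have h4 : Commute z (cx g x r * w * w⁻¹) :=
      h3.mul_right (Commute.inv_right (mul_inv_eq_iff_eq_mul.1 hzw))
    rw [mul_inv_cancel_right] at h4
    exact D.ncomm ha r h4.symm

theorem lt_two_mul (ha : a < s) : s < 2 * a := by
  by_contra h
  have := D.descent_left ha a D.a_pos le_rfl (by omega)
  rw [W_empty le_rfl, mem_bot] at this
  exact D.w_ne_one ha 0 (by simpa using this)

theorem descent_right (ha : a < s) : ∀ m, m ≤ a - (s - a) → 2 * a + 1 ≤ a - m + s →
    ⁅cx g x 0, cx g x a⁆ ∈ W g x (s - a) (a - m) := by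
  intro m
  induction m with
  | zero =>
    intro _ _
    simpa using D.descent_left ha (s - a) (by omega) (by have := D.lt_two_mul ha; omega) le_rfl
  | succ m ih =>
    intro h1 h2
    have hlt := D.lt_two_mul ha
    set r := a - (m + 1) with hr
    have hw : ⁅cx g x 0, cx g x a⁆ ∈ W g x (s - a) (r + 1) := by
      have := ih (by omega) (by omega)
      rwa [show a - m = r + 1 by omega] at this
    set w := ⁅cx g x 0, cx g x a⁆ with hwdef
    rcases half_cases (W_mono le_rfl (by omega)) (D.half_right (i := s - a) (j := r) (by omega)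
      (by omega)) (cx_mem_W (by omega) (by omega)) (D.right_notMem (by omega) (by omega)) hw
      with h | h
    · exact h
    exfalso
    set i := s - 1 - a with hi
    have hshift : ∀ k, MulAut.conj (g ^ i) (cx g x k) = cx g x (i + k) := cx_shift g x i
    have hmapW : ∀ {u : G} {b c : ℕ}, u ∈ W g x b c →
        MulAut.conj (g ^ i) u ∈ W g x (b + i) (c + i) := fun hu => by
      rw [← cnj_W]; exact conj_mem_cnj hu
    have hw1 : ⁅cx g x i, cx g x (s - 1)⁆ ∈ W g x (s - a + i) (r + 1 + i) := by
      have := hmapW hw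
      rwa [hwdef, map_commutatorElement, hshift, hshift, Nat.add_zero,
        show i + a = s - 1 by omega] at this
    have hh : cx g x (i + r) * ⁅cx g x i, cx g x (s - 1)⁆ ∈ W g x (s - a + i) (r + i) := by
      have := hmapW h
      rwa [map_mul, hshift, hwdef, map_commutatorElement, hshift, hshift, Nat.add_zero,
        show i + a = s - 1 by omega] at this
    set v := ⁅cx g x i, cx g x (s - 1)⁆ with hvdef
    set q := i + r - a with hq
    set z := cx g x q with hz
    set e := ⁅z, cx g x (s - 1)⁆ with he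
    have hem : e ∈ W g x (q + 1) (s - 1) := D.comm_mem (by omega) (by omega)
    have he1 : Commute e (cx g x i) :=
      (W_comm (fun k _ _ => D.comm' i k (by omega) (by omega)) hem).symm
    have he2 : Commute e v := (W_comm (fun k k1 k2 => (W_comm (fun l l1 l2 =>
      D.comm' k l (by omega) (by omega)) hw1).symm) hem).symm
    have hzw : z * v * z⁻¹ = v := by
      have e0 : MulAut.conj z (cx g x (s - 1)) = e * cx g x (s - 1) := by
        rw [MulAut.conj_apply, he, commutatorElement_def]; group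
      have ea : MulAut.conj z (cx g x i) = cx g x i := by
        rw [MulAut.conj_apply, (D.comm' q i (by omega) (by omega)).eq, mul_inv_cancel_right]
      rw [← MulAut.conj_apply, hvdef, map_commutatorElement, e0, ea]
      calc ⁅cx g x i, e * cx g x (s - 1)⁆
          = (cx g x i * e) * cx g x (s - 1) * (cx g x i)⁻¹ * (cx g x (s - 1))⁻¹ * e⁻¹ := by
            rw [commutatorElement_def]; group
        _ = (e * cx g x i) * cx g x (s - 1) * (cx g x i)⁻¹ * (cx g x (s - 1))⁻¹ * e⁻¹ := by
            rw [he1.eq]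
        _ = e * v * e⁻¹ := by rw [hvdef, commutatorElement_def]; group
        _ = v := by rw [he2.eq, mul_inv_cancel_right]
    have h3 : Commute z (cx g x (i + r) * v) :=
      W_comm (fun k k1 k2 => D.comm' q k (by omega) (by omega)) hh
    have h4 : Commute z (cx g x (i + r) * v * v⁻¹) :=
      h3.mul_right (Commute.inv_right (mul_inv_eq_iff_eq_mul.1 hzw))
    rw [mul_inv_cancel_right] at h4
    refine D.ncomm ha q ?_
    rwa [show q + a = i + r by omega]

theorem two_mul_le (ha : a < s) : 2 * s ≤ 3 * a := by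
  by_contra h
  have hlt := D.lt_two_mul ha
  have := D.descent_right ha (a - (s - a)) le_rfl (by omega)
  rw [W_empty (by omega), mem_bot] at this
  exact D.w_ne_one ha 0 (by simpa using this)

theorem w_mem (ha : a < s) : ⁅cx g x 0, cx g x a⁆ ∈ W g x (s - a) (2 * a - s + 1) := by
  have hlt := D.lt_two_mul ha
  have h2 := D.two_mul_le ha
  have := D.descent_right ha (a - (2 * a - s + 1)) (by omega) (by omega)
  rwa [show a - (a - (2 * a - s + 1)) = 2 * a - s + 1 by omega] at this

theorem q_eq (hs : 2 ≤ s) : P ⊓ cnj g P = W g x 1 s := by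
  conv_lhs => rw [← D.top, cnj_W_one]
  exact D.inter 0 s (by omega) (by omega)

theorem h_eq (hC : Ctx P H g y) : H = W g x 0 (s + 1) := by
  have := D.a_pos; have := D.a_le
  rw [hC.gen, ← D.top, cnj_W_one]
  refine le_antisymm (sup_le (W_mono le_rfl (by omega)) (W_mono (by omega) le_rfl))
    (W_le fun k h1 h2 => ?_)
  rcases Nat.eq_zero_or_pos k with rfl | hk
  · exact mem_sup_left (cx_mem_W le_rfl (by omega))
  · exact mem_sup_right (cx_mem_W hk h2)

theorem central_of (hC : Ctx P H g y) {u : G} (hu : ∀ k ≤ s, Commute u (cx g x k)) :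
    ∀ h ∈ H, Commute h u := by
  intro h hh
  rw [D.h_eq hC] at hh
  exact (W_comm (fun k _ h2 => hu k (by omega)) hh).symm

/-- The middle interval is centralized by `H`. -/
theorem middle_central (hC : Ctx P H g y) {u : G} (hu : u ∈ W g x (s + 1 - a) a) :
    ∀ h ∈ H, Commute h u :=
  D.central_of hC fun k hk => (W_comm (fun l l1 l2 => D.comm' k l (by omega) (by omega)) hu).symm

theorem two_mul_sub_le (hC : Ctx P H g y) : 2 * a ≤ s + 2 := by
  by_contra h
  have ha := D.a_le
  set K := W g x (s + 1 - a) a with hK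
  have hKP : K ≤ P := by rw [← D.top]; exact W_mono (by omega) ha
  have hKn : ∀ h ∈ H, ∀ k ∈ K, h * k * h⁻¹ ∈ K := fun h hh k hk => by
    rwa [(D.middle_central hC hk h hh).eq, mul_inv_cancel_right]
  have hR := hC.cnj_inter hKP hKn
  have hg : cnj g⁻¹ K = W g x (s - a) (a - 1) := by
    rw [hK, show W g x (s + 1 - a) a = cnj g (W g x (s - a) (a - 1)) by
      rw [cnj_W_one, show s - a + 1 = s + 1 - a by omega, show a - 1 + 1 = a by omega],
      cnj_cnj, inv_mul_cancel, cnj_one]
  have hI : K ⊓ cnj g⁻¹ K = W g x (s + 1 - a) (a - 1) := by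
    rw [hg, hK, inf_comm]
    have := D.inter (s - a) (a - 1) (by omega) (by omega)
    rwa [show s - a + 1 = s + 1 - a by omega, show a - 1 + 1 = a by omega] at this
  have h0 := hC.core _ (le_trans inf_le_left hKP) (fun h hh k hk => by
    rwa [(D.middle_central hC hk.1 h hh).eq, mul_inv_cancel_right]) hR
  have h1 := D.card (s + 1 - a) (a - 1) (by omega) (by omega)
  rw [← hI, h0, card_bot] at h1
  have := Nat.one_lt_pow (show a - 1 - (s + 1 - a) ≠ 0 by omega) one_lt_two
  omega

/-- The interval `W 1 (s - 1)` is not normalised by `H`. -/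
theorem inner_not_normal (hC : Ctx P H g y) (hs : 3 ≤ s) :
    ¬ ∀ h ∈ H, ∀ k ∈ W g x 1 (s - 1), h * k * h⁻¹ ∈ W g x 1 (s - 1) := by
  intro hn
  have hI : W g x 1 s ⊓ cnj g⁻¹ (W g x 1 s) = W g x 1 (s - 1) := by
    rw [show W g x 1 s = cnj g (W g x 0 (s - 1)) by
      rw [cnj_W_one, show s - 1 + 1 = s by omega], cnj_cnj, inv_mul_cancel, cnj_one, cnj_W_one,
      inf_comm]
    exact D.inter 0 (s - 1) (by omega) (by omega)
  have hQ := D.q_eq (by omega)
  have hR := hC.cnj_inter (K := W g x 1 s) (hQ ▸ inf_le_left) (hQ ▸ hC.qnormal)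
  rw [hI] at hR
  have h0 := hC.core _ ((W_mono le_rfl (by omega)).trans (hQ ▸ inf_le_left)) hn hR
  have h1 := D.card 1 (s - 1) (by omega) (by omega)
  rw [h0, card_bot] at h1
  have := Nat.one_lt_pow (show s - 1 - 1 ≠ 0 by omega) one_lt_two
  omega

theorem six_false (hC : Ctx P H g y) (hs : s = 6) (ha : a = 4) : False := by
  subst hs ha
  refine D.inner_not_normal hC (by omega) ?_
  show ∀ h ∈ H, ∀ k ∈ W g x 1 5, h * k * h⁻¹ ∈ W g x 1 5
  have hgen : ∀ k ≤ 6, cx g x k ∈ normalizer (W g x 1 5 : Set G) := by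
    intro k hk
    have hconj : ∀ j, 1 ≤ j → j < 5 → cx g x k * cx g x j * (cx g x k)⁻¹ ∈ W g x 1 5 := by
      intro j hj1 hj2
      rcases Nat.lt_or_ge k 6 with hk6 | hk6
      · have hR : W g x 1 5 = W g x 0 5 ⊓ W g x 1 6 := (D.inter 0 5 (by omega) (by omega)).symm
        rw [hR, mem_inf]
        exact ⟨conj_mem_of_half (W_mono le_rfl (by omega)) (D.half_right (by omega) (by omega))
            (cx_mem_W (by omega) hk6) (cx_mem_W (by omega) hj2),
          conj_mem_of_half (W_mono (by omega) le_rfl) (D.half_left (by omega) (by omega))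
            (cx_mem_W (by omega) hk6) (cx_mem_W hj1 (by omega))⟩
      obtain rfl : k = 6 := by omega
      have hcj : cx g x 6 * cx g x j * (cx g x 6)⁻¹ = ⁅cx g x 6, cx g x j⁆ * cx g x j := by
        rw [commutatorElement_def]; group
      rw [hcj]
      refine mul_mem ?_ (cx_mem_W hj1 hj2)
      rcases Nat.lt_or_ge j 3 with hj3 | hj3
      swap
      · rw [commutatorElement_eq_one_iff_mul_comm.2 (D.comm' 6 j (by omega) (by omega)).eq]
        exact one_mem _
      rw [← commutatorElement_inv, inv_mem_iff]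
      rcases Nat.lt_or_ge j 2 with hj4 | hj4
      swap
      · obtain rfl : j = 2 := by omega
        have h := conj_mem_cnj (g := g ^ 2) (D.w_mem (by omega))
        rw [cnj_W, ← MulAut.conj_apply, map_commutatorElement] at h
        rw [cx_shift, cx_shift] at h
        exact W_mono (by omega) (by omega) h
      obtain rfl : j = 1 := by omega
      have hem : ⁅cx g x 1, cx g x 6⁆ ∈ W g x 2 6 := D.comm_mem (by omega) (by omega)
      rcases half_cases (W_mono le_rfl (by omega)) (D.half_right (i := 2) (j := 5) (by omega)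
        (by omega)) (cx_mem_W (by omega) (by omega)) (D.right_notMem (by omega) (by omega)) hem
        with h | h
      · exact W_mono (by omega) le_rfl h
      exfalso
      set v := cx g x 5 * ⁅cx g x 1, cx g x 6⁆ with hv
      have hv1 : Commute (cx g x 1) v :=
        W_comm (fun m m1 m2 => D.comm' 1 m (by omega) (by omega)) h
      have hv5 : Commute (cx g x 5) v :=
        W_comm (fun m m1 m2 => D.comm' 5 m (by omega) (by omega)) h
      set u := cx g x 6 * cx g x 1 * (cx g x 6)⁻¹ with hu
      have huv : u = v⁻¹ * cx g x 5 * cx g x 1 := by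
        rw [hu, hv, commutatorElement_def]; group
      have hu2 : u * u = 1 := by
        rw [hu, show cx g x 6 * cx g x 1 * (cx g x 6)⁻¹ * (cx g x 6 * cx g x 1 * (cx g x 6)⁻¹)
          = cx g x 6 * (cx g x 1 * cx g x 1) * (cx g x 6)⁻¹ by group, D.sq]
        group
      have hc : Commute (cx g x 5 * cx g x 1) v⁻¹ := (hv5.mul_left hv1).inv_right
      have hsq : u * u = v⁻¹ * v⁻¹ * ((cx g x 5 * cx g x 1) * (cx g x 5 * cx g x 1)) := by
        rw [huv, mul_assoc v⁻¹, mul_assoc v⁻¹, ← mul_assoc (cx g x 5 * cx g x 1), hc.eq]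
        group
      have hv2 : v * v = 1 := by
        have hab : ∀ z ∈ W g x 2 5, z * z = 1 := by
          intro z hz
          have hcm : ∀ b c, b ∈ W g x 2 5 → c ∈ W g x 2 5 → Commute b c := fun b c hb hc' =>
            (W_comm (fun m m1 m2 => (W_comm (fun l l1 l2 =>
              D.comm' m l (by omega) (by omega)) hc').symm) hb).symm
          induction hz using Subgroup.closure_induction with
          | mem z hz => obtain ⟨m, -, rfl⟩ := hz; exact D.sq m
          | one => simp
          | mul b c hb hc' ihb ihc =>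
            rw [mul_assoc, ← mul_assoc c, (hcm c b hc' hb).eq, mul_assoc b c, ihc, mul_one, ihb]
          | inv b _ ihb => rw [← mul_inv_rev, ihb, inv_one]
        exact hab v h
      rw [hu2, show v⁻¹ * v⁻¹ = (v * v)⁻¹ by group, hv2, inv_one, one_mul] at hsq
      refine D.ncomm (by omega) 1 (Commute.symm ?_)
      have := eq_inv_of_mul_eq_one_left hsq.symm
      rwa [mul_inv_rev, D.inv_eq, D.inv_eq] at this
    have hle : cnj (cx g x k) (W g x 1 5) = W g x 1 5 := by
      refine eq_of_le_of_card_ge (map_le_iff_le_comap.2 (W_le fun j h1 h2 => ?_)) (by rw [card_cnj])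
      rw [mem_comap, MulEquiv.coe_toMonoidHom, MulAut.conj_apply]
      exact hconj j h1 h2
    refine mem_normalizer_iff.2 fun h => ?_
    conv_rhs => rw [← hle]
    rw [mem_cnj]; simp [mul_assoc]
  intro h hh u hu
  rw [D.h_eq hC] at hh
  exact (mem_normalizer_iff.1 ((W_le fun k _ h2 => hgen k (by omega)) hh) u).1 hu

end Dist

/-- The possible parameters. -/
theorem Ctx.exists_params (hC : Ctx P H g y) :
    ∃ (x : G) (s a : ℕ), Dist P g x s a ∧
      ((s = 2 ∧ a = 2) ∨ (s = 3 ∧ a = 2) ∨ (s = 4 ∧ a = 3)) := by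
  obtain ⟨s, x, hs, hS⟩ := exists_sims hC.base
  obtain ⟨a, D⟩ := exists_dist hs hS
  refine ⟨x, s, a, D, ?_⟩
  have hs2 : 2 ≤ s := by
    by_contra h
    have hh := hC.half
    rw [← hS.top, hS.card 0 s (by omega) (by omega), show s - 0 = 1 by omega, pow_one, hS.top] at hh
    exact hC.qne (eq_bot_of_card_eq _ (by omega))
  have h1 := D.two_mul_sub_le hC
  have ha := D.a_le
  rcases Nat.eq_or_lt_of_le ha with h | h
  · omega
  have h2 := D.lt_two_mul h
  have h3 := D.two_mul_le h
  by_cases h6 : s = 6 ∧ a = 4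
  · exact (D.six_false hC h6.1 h6.2).elim
  · omega

end CfsgLib.LocalEven.DihedralPushUp
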