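import Mathlib

/-!
Sims chains: a finite `2`-group `P` and an element `g` such that `P ∩ gPg⁻¹` has index `2` in `P`
and no nontrivial subgroup of `P` is normalised by `g` and `P`.
-/

set_option autoImplicit false

namespace CfsgLib.LocalEven.DihedralPushUp

open Subgroup
open scoped commutatorElement

variable {G : Type*} [Group G]

/-- Conjugation of subgroups. -/
def cnj (g : G) (K : Subgroup G) : Subgroup G := K.map (MulAut.conj g).toMonoidHom

theorem mem_cnj {g x : G} {K : Subgroup G} : x ∈ cnj g K ↔ g⁻¹ * x * g ∈ K := by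
  rw [cnj, mem_map_equiv]; simp [MulAut.conj_symm_apply]

theorem conj_mem_cnj {g x : G} {K : Subgroup G} (h : x ∈ K) : g * x * g⁻¹ ∈ cnj g K := by
  rw [mem_cnj]; simpa [mul_assoc] using h

theorem cnj_cnj (a b : G) (K : Subgroup G) : cnj a (cnj b K) = cnj (a * b) K := by
  ext x; simp [mem_cnj, mul_assoc]

theorem cnj_one (K : Subgroup G) : cnj 1 K = K := by
  ext x; simp [mem_cnj]

theorem cnj_mono {g : G} {K L : Subgroup G} (h : K ≤ L) : cnj g K ≤ cnj g L := map_mono h

theorem card_cnj (g : G) (K : Subgroup G) : Nat.card (cnj g K) = Nat.card K :=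
  card_map_of_injective (MulAut.conj g).injective

theorem cnj_inj {g : G} {K L : Subgroup G} (h : cnj g K = cnj g L) : K = L :=
  map_injective (MulAut.conj g).injective h

theorem cnj_inf (g : G) (K L : Subgroup G) : cnj g (K ⊓ L) = cnj g K ⊓ cnj g L :=
  map_inf _ _ _ (MulAut.conj g).injective

theorem cnj_sup (g : G) (K L : Subgroup G) : cnj g (K ⊔ L) = cnj g K ⊔ cnj g L := map_sup _ _ _

theorem cnj_bot (g : G) : cnj g (⊥ : Subgroup G) = ⊥ := map_bot _

variable [Finite G]

theorem le_two_mul_inf {X K L : Subgroup G} (hK : K ≤ X) (hL : L ≤ X)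
    (h : Nat.card X ≤ 2 * Nat.card K) : Nat.card L ≤ 2 * Nat.card ↥(K ⊓ L) := by
  have h1 : K.relIndex X ≤ 2 := by
    have := relIndex_mul_card K X hK
    have hpos : 0 < Nat.card K := Nat.card_pos
    nlinarith
  have hne : K.relIndex X ≠ 0 := Subgroup.index_ne_zero_of_finite
  have h2 : K.relIndex L ≤ K.relIndex X := relIndex_le_of_le_right hL hne
  have h3 := relIndex_mul_card (K ⊓ L) L inf_le_right
  rw [inf_relIndex_right] at h3
  rw [← h3]
  exact Nat.mul_le_mul_right _ (h2.trans h1)
where
  relIndex_mul_card (K X : Subgroup G) (hK : K ≤ X) : K.relIndex X * Nat.card K = Nat.card X := by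
    have := (K.subgroupOf X).card_mul_index
    rw [Nat.card_congr (Subgroup.subgroupOfEquivOfLe hK).toEquiv] at this
    rw [← this, mul_comm]; rfl

/-- A subgroup of index two is normal. -/
theorem conj_mem_of_half {A B : Subgroup G} (hAB : A ≤ B) (h : Nat.card B = 2 * Nat.card A)
    {b a : G} (hb : b ∈ B) (ha : a ∈ A) : b * a * b⁻¹ ∈ A := by
  have h2 : (A.subgroupOf B).index = 2 := by
    have := (A.subgroupOf B).card_mul_index
    rw [Nat.card_congr (Subgroup.subgroupOfEquivOfLe hAB).toEquiv, h, mul_comm 2] at this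
    exact mul_left_cancel₀ Nat.card_pos.ne' this
  exact (Subgroup.normal_of_index_eq_two h2).conj_mem ⟨a, hAB ha⟩ ha ⟨b, hb⟩

/-- Two different subgroups of index at most two generate. -/
theorem sup_eq_of_half {A B C : Subgroup G} (hA : A ≤ C) (hB : B ≤ C)
    (h : Nat.card C ≤ 2 * Nat.card A) (hne : ¬ B ≤ A) : A ⊔ B = C := by
  refine eq_of_le_of_card_ge (sup_le hA hB) ?_
  have hlt : A < A ⊔ B := lt_of_le_of_ne le_sup_left fun e => hne (e ▸ le_sup_right)
  obtain ⟨k, hk⟩ := card_dvd_of_le hlt.le
  have hk1 : k ≠ 1 := fun e => hlt.ne (eq_of_le_of_card_ge hlt.le (by rw [hk, e, mul_one]))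
  have hk0 : k ≠ 0 := fun e => by
    have : 0 < Nat.card ↥(A ⊔ B) := Nat.card_pos
    rw [e, mul_zero] at hk; omega
  rw [hk]
  exact h.trans (by rw [mul_comm 2]; exact Nat.mul_le_mul_left _ (by omega))

variable (P : Subgroup G) (g : G)

/-- The chain `A (k+1) = A k ∩ gA kg⁻¹`. -/
def A : ℕ → Subgroup G
  | 0 => P
  | k + 1 => A k ⊓ cnj g (A k)

theorem A_succ_le (k : ℕ) : A P g (k + 1) ≤ A P g k := inf_le_left

theorem A_anti {i j : ℕ} (h : i ≤ j) : A P g j ≤ A P g i :=
  antitone_nat_of_succ_le (A_succ_le P g) h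

theorem A_le (k : ℕ) : A P g k ≤ P := A_anti P g (Nat.zero_le k)

variable {P g}

theorem A_step (hhalf : Nat.card P = 2 * Nat.card (A P g 1)) :
    ∀ k, Nat.card (A P g k) ≤ 2 * Nat.card (A P g (k + 1))
  | 0 => hhalf.le
  | k + 1 => by
    have ih := A_step hhalf k
    have h := le_two_mul_inf (X := cnj g (A P g k)) (K := cnj g (A P g (k + 1)))
      (L := A P g (k + 1)) (cnj_mono (A_succ_le P g k)) inf_le_right
      (by rw [card_cnj, card_cnj]; exact ih)
    rwa [inf_comm] at h

/-- Hypotheses of a chain. -/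
structure Base (P : Subgroup G) (g : G) : Prop where
  two : IsPGroup 2 P
  half : Nat.card P = 2 * Nat.card (A P g 1)
  core : ∀ K ≤ P, cnj g K = K → (∀ p ∈ P, ∀ k ∈ K, p * k * p⁻¹ ∈ K) → K = ⊥

theorem A_succ_ne (hB : Base P g) (k : ℕ) (hk : A P g k ≠ ⊥) : A P g (k + 1) ≠ A P g k := by
  induction k using Nat.strong_induction_on with
  | _ k ih =>
    intro he
    have hle : A P g k ≤ cnj g (A P g k) := by
      conv_lhs => rw [← he]
      exact inf_le_right
    have hS : cnj g (A P g k) = A P g k :=
      (eq_of_le_of_card_ge hle (by rw [card_cnj])).symm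
    have hS' : cnj g⁻¹ (A P g k) = A P g k := by
      conv_lhs => rw [← hS, cnj_cnj, inv_mul_cancel, cnj_one]
    refine hk (hB.core _ (A_le P g k) hS ?_)
    have key : ∀ m, ∀ j, j + m = k → ∀ p ∈ A P g j, ∀ x ∈ A P g k, p * x * p⁻¹ ∈ A P g k := by
      intro m
      induction m with
      | zero =>
        intro j hj p hp x hx
        obtain rfl : j = k := by omega
        exact mul_mem (mul_mem hp hx) (inv_mem hp)
      | succ m ihm =>
        intro j hj p hp x hx
        rcases Nat.eq_zero_or_pos m with rfl | hm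
        · obtain rfl : k = j + 1 := by omega
          refine conj_mem_of_half (A_succ_le P g j) ?_ hp hx
          obtain ⟨c, hc⟩ := card_dvd_of_le (A_succ_le P g j)
          have h1 : c ≠ 1 := fun e => ih j (by omega)
            (fun hb => hk (le_bot_iff.1 (hb ▸ A_succ_le P g j)))
            (eq_of_le_of_card_ge (A_succ_le P g j) (by rw [hc, e, mul_one]))
          have h2 := A_step hB.half j
          have h3 : 0 < Nat.card (A P g j) := Nat.card_pos
          have h4 : c ≠ 0 := fun e => by rw [e, mul_zero] at hc; omega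
          have h5 : c ≤ 2 := by
            refine Nat.le_of_mul_le_mul_left ?_ (Nat.card_pos (α := A P g (j + 1)))
            rw [← hc, mul_comm (Nat.card _)]; exact h2
          rw [hc, show c = 2 by omega, mul_comm]
        · have hb : cnj g⁻¹ (A P g (j + 1)) ≤ A P g j := by
            refine (cnj_mono (inf_le_right : A P g (j + 1) ≤ cnj g (A P g j))).trans ?_
            rw [cnj_cnj, inv_mul_cancel, cnj_one]
          have hne : ¬ cnj g⁻¹ (A P g (j + 1)) ≤ A P g (j + 1) := by
            intro hle'
            have h1 := eq_of_le_of_card_ge hle' (by rw [card_cnj])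
            have h2 : cnj g (A P g (j + 1)) = A P g (j + 1) := by
              conv_lhs => rw [← h1, cnj_cnj, mul_inv_cancel, cnj_one]
            have hnb : A P g (j + 1) ≠ ⊥ := fun e => hk (le_bot_iff.1 (e ▸ A_anti P g (by omega)))
            exact ih (j + 1) (by omega) hnb (show A P g (j + 1) ⊓ _ = _ by rw [h2, inf_idem])
          have hsup := sup_eq_of_half (A_succ_le P g j) hb (A_step hB.half j) hne
          have hNle : A P g j ≤ normalizer (A P g k : Set G) := by
            rw [← hsup]
            have h1 : A P g (j + 1) ≤ normalizer (A P g k : Set G) := fun q hq =>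
              mem_normalizer_iff.2 fun h => ⟨fun hh => ihm (j + 1) (by omega) q hq h hh,
                fun hh => by
                  simpa [mul_assoc] using ihm (j + 1) (by omega) q⁻¹ (inv_mem hq) _ hh⟩
            refine sup_le h1 fun q hq => ?_
            have h3 : g * q * g⁻¹ ∈ normalizer (A P g k : Set G) :=
              h1 (by simpa [mem_cnj] using hq)
            have hg : g ∈ normalizer (A P g k : Set G) := mem_normalizer_iff.2 fun h => by
              conv_rhs => rw [← hS]
              rw [mem_cnj]; simp [mul_assoc]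
            have := mul_mem (mul_mem (inv_mem hg) h3) hg
            simpa [mul_assoc] using this
          exact (mem_normalizer_iff.1 (hNle hp) x).1 hx
    exact key k 0 (Nat.zero_add k)

theorem exists_length (hB : Base P g) :
    ∃ s, Nat.card P = 2 ^ s ∧ ∀ k ≤ s, Nat.card (A P g k) = 2 ^ (s - k) := by
  obtain ⟨s, hs⟩ := IsPGroup.iff_card.1 hB.two
  refine ⟨s, hs, fun k => ?_⟩
  induction k with
  | zero => intro _; simpa [A] using hs
  | succ k ih =>
    intro hk
    have h := ih (by omega)
    have hne : A P g k ≠ ⊥ := fun e => by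
      rw [e, card_bot, show s - k = s - (k + 1) + 1 by omega, pow_succ] at h
      omega
    obtain ⟨c, hc⟩ := card_dvd_of_le (A_succ_le P g k)
    have h1 : c ≠ 1 := fun e => A_succ_ne hB k hne
      (eq_of_le_of_card_ge (A_succ_le P g k) (by rw [hc, e, mul_one]))
    have h2 := A_step hB.half k
    have h4 : c ≠ 0 := fun e => by
      have : 0 < Nat.card (A P g k) := Nat.card_pos
      rw [e, mul_zero] at hc; omega
    have h5 : c ≤ 2 := by
      refine Nat.le_of_mul_le_mul_left ?_ (Nat.card_pos (α := A P g (k + 1)))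
      rw [← hc, mul_comm (Nat.card _)]; exact h2
    rw [show c = 2 by omega, h, show s - k = s - (k + 1) + 1 by omega, pow_succ] at hc
    omega

/-- The subgroup generated by an interval of conjugates of `x`. -/
def W (g x : G) (i j : ℕ) : Subgroup G :=
  closure ((fun k => g ^ k * x * (g ^ k)⁻¹) '' Set.Ico i j)

/-- The `k`-th conjugate. -/
def cx (g x : G) (k : ℕ) : G := g ^ k * x * (g ^ k)⁻¹

theorem cx_mem_W {x : G} {i j k : ℕ} (h1 : i ≤ k) (h2 : k < j) : cx g x k ∈ W g x i j :=
  subset_closure ⟨k, ⟨h1, h2⟩, rfl⟩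

theorem W_le {x : G} {i j : ℕ} {K : Subgroup G} (h : ∀ k, i ≤ k → k < j → cx g x k ∈ K) :
    W g x i j ≤ K := by
  refine (closure_le K).2 ?_
  rintro _ ⟨k, ⟨h1, h2⟩, rfl⟩
  exact h k h1 h2

theorem W_mono {x : G} {i j i' j' : ℕ} (h1 : i' ≤ i) (h2 : j ≤ j') : W g x i j ≤ W g x i' j' :=
  W_le fun _ a b => cx_mem_W (by omega) (by omega)

theorem W_empty {x : G} {i j : ℕ} (h : j ≤ i) : W g x i j = ⊥ :=
  le_bot_iff.1 (W_le fun k a b => by omega)

theorem cnj_W {x : G} (n i j : ℕ) : cnj (g ^ n) (W g x i j) = W g x (i + n) (j + n) := by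
  have key : ∀ k, g ^ n * cx g x k * (g ^ n)⁻¹ = cx g x (k + n) := fun k => by
    simp only [cx, pow_add, add_comm k n, mul_inv_rev]; group
  apply le_antisymm
  · rw [cnj, map_le_iff_le_comap]
    refine W_le fun k a b => ?_
    rw [mem_comap, MulEquiv.coe_toMonoidHom, MulAut.conj_apply]
    rw [key]; exact cx_mem_W (by omega) (by omega)
  · refine W_le fun k a b => ?_
    obtain ⟨m, rfl⟩ : ∃ m, k = m + n := ⟨k - n, by omega⟩
    rw [← key]
    exact conj_mem_cnj (cx_mem_W (by omega) (by omega))

theorem cnj_W_one {x : G} (i j : ℕ) : cnj g (W g x i j) = W g x (i + 1) (j + 1) := by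
  simpa using cnj_W (g := g) (x := x) 1 i j

theorem W_split {x : G} {i j k : ℕ} (h1 : i ≤ j) (h2 : j ≤ k) :
    W g x i k = W g x i j ⊔ W g x j k := by
  refine le_antisymm (W_le fun m a b => ?_) (sup_le (W_mono le_rfl h2) (W_mono h1 le_rfl))
  rcases Nat.lt_or_ge m j with h | h
  · exact mem_sup_left (cx_mem_W a h)
  · exact mem_sup_right (cx_mem_W h b)

/-- A chain written in terms of conjugates of one element. -/
structure Sims (P : Subgroup G) (g x : G) (s : ℕ) : Prop where
  card : ∀ i j, i ≤ j → j ≤ i + s → Nat.card (W g x i j) = 2 ^ (j - i)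
  inter : ∀ i j, i < j → j ≤ i + s → W g x i j ⊓ W g x (i + 1) (j + 1) = W g x (i + 1) j
  top : W g x 0 s = P

theorem exists_sims (hB : Base P g) : ∃ (s : ℕ) (x : G), 1 ≤ s ∧ Sims P g x s := by
  obtain ⟨s, hs, hA⟩ := exists_length hB
  have hs1 : 1 ≤ s := by
    by_contra h
    have := hB.half
    rw [hs, show s = 0 by omega] at this
    omega
  have h1 : Nat.card (A P g (s - 1)) = 2 := by
    rw [hA _ (by omega), show s - (s - 1) = 1 by omega, pow_one]
  obtain ⟨z, hz, hz1⟩ := (A P g (s - 1)).bot_or_exists_ne_one.resolve_left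
    (fun e => by rw [e, card_bot] at h1; omega)
  refine ⟨s, (g ^ (s - 1))⁻¹ * z * g ^ (s - 1), hs1, ?_⟩
  set x := (g ^ (s - 1))⁻¹ * z * g ^ (s - 1) with hx
  have hzx : cx g x (s - 1) = z := by simp [cx, hx, mul_assoc]
  have hAW : ∀ m j, j + m = s → A P g j = W g x j s := by
    intro m
    induction m with
    | zero =>
      intro j hj
      obtain rfl : j = s := by omega
      rw [W_empty le_rfl]
      exact eq_bot_of_card_eq _ (by rw [hA _ le_rfl, Nat.sub_self, pow_zero])
    | succ m ih =>
      intro j hj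
      rcases Nat.eq_zero_or_pos m with rfl | hm
      · obtain rfl : j = s - 1 := by omega
        apply le_antisymm
        · intro u hu
          haveI : Fact (Nat.Prime 2) := ⟨Nat.prime_two⟩
          have := mem_zpowers_of_prime_card (p := 2) h1 (g := (⟨z, hz⟩ : A P g (s - 1)))
            (g' := ⟨u, hu⟩) (fun e => hz1 (congrArg Subtype.val e))
          obtain ⟨e, he⟩ := mem_zpowers_iff.1 this
          have he' : z ^ e = u := by simpa using congrArg Subtype.val he
          rw [← he']
          exact zpow_mem (hzx ▸ cx_mem_W le_rfl (by omega)) e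
        · refine W_le fun k a b => ?_
          rw [show k = s - 1 by omega, hzx]; exact hz
      · have hA1 := ih (j + 1) (by omega)
        have hb : cnj g⁻¹ (A P g (j + 1)) ≤ A P g j := by
          refine (cnj_mono (inf_le_right : A P g (j + 1) ≤ cnj g (A P g j))).trans ?_
          rw [cnj_cnj, inv_mul_cancel, cnj_one]
        have hW : cnj g⁻¹ (A P g (j + 1)) = W g x j (s - 1) := by
          rw [hA1, show W g x (j + 1) s = cnj g (W g x j (s - 1)) by
            rw [cnj_W_one, show s - 1 + 1 = s by omega], cnj_cnj, inv_mul_cancel, cnj_one]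
        have hne : ¬ cnj g⁻¹ (A P g (j + 1)) ≤ A P g (j + 1) := by
          intro hle'
          have h2 := eq_of_le_of_card_ge hle' (by rw [card_cnj])
          have h3 : cnj g (A P g (j + 1)) = A P g (j + 1) := by
            conv_lhs => rw [← h2, cnj_cnj, mul_inv_cancel, cnj_one]
          refine A_succ_ne hB (j + 1) (fun e => ?_) (show A P g (j + 1) ⊓ _ = _ by rw [h3, inf_idem])
          have h4 := hA (j + 1) (by omega)
          rw [e, card_bot, show s - (j + 1) = m - 1 + 1 by omega, pow_succ] at h4
          omega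
        rw [← sup_eq_of_half (A_succ_le P g j) hb (A_step hB.half j) hne, hW, hA1]
        refine le_antisymm (sup_le (W_mono (by omega) le_rfl) (W_mono le_rfl (by omega)))
          (W_le fun k a b => ?_)
        rcases Nat.lt_or_ge k (j + 1) with h | h
        · exact mem_sup_right (cx_mem_W a (by omega))
        · exact mem_sup_left (cx_mem_W h b)
  have hcard0 : ∀ L, L ≤ s → Nat.card (W g x 0 L) = 2 ^ L := fun L hL => by
    rw [← card_cnj (g ^ (s - L)), cnj_W, Nat.zero_add, show L + (s - L) = s by omega,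
      ← hAW L (s - L) (by omega), hA _ (by omega), show s - (s - L) = L by omega]
  have hinter0 : ∀ L, 1 ≤ L → L ≤ s → W g x 0 L ⊓ W g x 1 (L + 1) = W g x 1 L := fun L h hL => by
    apply cnj_inj (g := g ^ (s - L))
    rw [cnj_inf, cnj_W, cnj_W, cnj_W, Nat.zero_add, show L + (s - L) = s by omega,
      show L + 1 + (s - L) = s + 1 by omega]
    have e1 := hAW (L - 1) (1 + (s - L)) (by omega)
    have e2 := hAW L (s - L) (by omega)
    rw [← e1, ← e2, show 1 + (s - L) = s - L + 1 by omega]
    show _ = A P g (s - L) ⊓ cnj g (A P g (s - L))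
    rw [e2, cnj_W_one, show s - L + 1 = 1 + (s - L) by omega]
  refine ⟨fun i j hij hj => ?_, fun i j hij hj => ?_, ?_⟩
  · have h := cnj_W (g := g) (x := x) i 0 (j - i)
    rw [Nat.zero_add, show j - i + i = j by omega] at h
    rw [← h, card_cnj, hcard0 _ (by omega)]
  · have h := cnj_W (g := g) (x := x) i 0 (j - i)
    have h' := cnj_W (g := g) (x := x) i 1 (j - i + 1)
    have h'' := cnj_W (g := g) (x := x) i 1 (j - i)
    rw [Nat.zero_add, show j - i + i = j by omega] at h
    rw [show j - i + 1 + i = j + 1 by omega, add_comm 1 i] at h'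
    rw [show j - i + i = j by omega, add_comm 1 i] at h''
    rw [← h, ← h', ← h'', ← cnj_inf, hinter0 _ (by omega) (by omega)]
  · exact (hAW s 0 (by omega)).symm

end CfsgLib.LocalEven.DihedralPushUp
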