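import Mathlib
import Cfsg.Agent.Lib.Classical.Dickson.SmallIdent
import Cfsg.Agent.Lib.Cores.Basic

/-!
Groups modulo the odd core with a four-group, `S₄`, or `S₄ × 2` on top.
-/

set_option autoImplicit false

namespace CfsgLib.LocalEven.DihedralPushUp

open Subgroup Cfsg
open scoped commutatorElement

variable {X : Type*} [Group X] [Finite X]

theorem eq_one_of_two_pow {u : X} {k : ℕ} (h : u ^ 2 ^ k = 1) {N : Subgroup X}
    (hN : Odd (Nat.card N)) (hu : u ∈ N) : u = 1 := by
  have h1 : orderOf u ∣ Nat.card N := by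
    have := orderOf_dvd_natCard (⟨u, hu⟩ : N)
    rwa [Subgroup.orderOf_mk] at this
  have h2 := orderOf_dvd_of_pow_eq_one h
  rw [← orderOf_eq_one_iff]
  exact Nat.dvd_one.1 ((hN.coprime_two_right.pow_right k).gcd_eq_one ▸ Nat.dvd_gcd h1 h2)

theorem centralizer_normal (Q : Subgroup X) [Q.Normal] : (centralizer (Q : Set X)).Normal := by
  refine ⟨fun u hu k => mem_centralizer_iff.2 fun q hq => ?_⟩
  have h1 := mem_centralizer_iff.1 hu _
    (by simpa using Subgroup.Normal.conj_mem (H := Q) inferInstance q hq k⁻¹ :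
      k⁻¹ * q * k ∈ (Q : Set X))
  calc q * (k * u * k⁻¹) = k * ((k⁻¹ * q * k) * u) * k⁻¹ := by group
    _ = k * (u * (k⁻¹ * q * k)) * k⁻¹ := by rw [h1]
    _ = k * u * k⁻¹ * q := by group

theorem map_eq_one_of_odd {A : Type*} [Group A] [Finite A] (hA : IsPGroup 2 A) (f : X →* A)
    {N : Subgroup X} (hN : Odd (Nat.card N)) {u : X} (hu : u ∈ N) : f u = 1 := by
  obtain ⟨k, hk⟩ := hA (f u)
  have h1 : orderOf (f u) ∣ Nat.card N := by
    refine (orderOf_map_dvd f u).trans ?_
    have := orderOf_dvd_natCard (⟨u, hu⟩ : N)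
    rwa [Subgroup.orderOf_mk] at this
  rw [← orderOf_eq_one_iff]
  exact Nat.dvd_one.1 ((hN.coprime_two_right.pow_right k).gcd_eq_one ▸
    Nat.dvd_gcd h1 (orderOf_dvd_of_pow_eq_one hk))

/-- The centralizer of a normal abelian `Q = P ⊓ C(Q)` is `Q` times the odd core. -/
theorem centralizer_split (P : Sylow 2 X) (Q : Subgroup X) [Q.Normal]
    (hab : ∀ a ∈ Q, ∀ b ∈ Q, a * b = b * a) (hQP : Q ≤ P)
    (hC : ∀ u ∈ (P : Subgroup X), u ∈ centralizer (Q : Set X) → u ∈ Q) :
    oddCore X ≤ centralizer (Q : Set X) ∧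
      (∀ c ∈ centralizer (Q : Set X), ∃ q ∈ Q, ∃ o ∈ oddCore X, c = q * o) ∧
      Nat.card (centralizer (Q : Set X)) = Nat.card Q * Nat.card (oddCore X) := by
  haveI : Fact (Nat.Prime 2) := ⟨Nat.prime_two⟩
  set C := centralizer (Q : Set X) with hCdef
  have hQC : Q ≤ C := fun q hq => mem_centralizer_iff.2 fun r hr => hab r hr q hq
  have hQ2 : IsPGroup 2 Q := P.2.to_le hQP
  obtain ⟨S, hS⟩ := (hQ2.comap_subtype (K := C)).exists_le_sylow
  have hSQ : (S : Subgroup C) = Q.subgroupOf C := by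
    refine le_antisymm (fun u hu => ?_) hS
    obtain ⟨R, hR⟩ := (S.2.map C.subtype).exists_le_sylow
    obtain ⟨k, rfl⟩ := MulAction.exists_smul_eq X P R
    have h1 : k⁻¹ * (u : X) * k ∈ (P : Subgroup X) := by
      have := hR ⟨u, hu, rfl⟩
      rw [Sylow.coe_subgroup_smul, Subgroup.mem_pointwise_smul_iff_inv_smul_mem] at this
      simpa [← map_inv, MulAut.smul_def] using this
    have hCn : C.Normal := centralizer_normal Q
    have h2 := hC _ h1 (by simpa using hCn.conj_mem _ u.2 k⁻¹)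
    show (u : X) ∈ Q
    have := Subgroup.Normal.conj_mem (H := Q) inferInstance _ h2 k
    simpa [mul_assoc] using this
  have hnorm : normalizer ((S : Subgroup C) : Set C) ≤ centralizer ((S : Subgroup C) : Set C) := by
    intro u _
    refine mem_centralizer_iff.2 fun r hr => ?_
    rw [hSQ] at hr
    exact Subtype.ext (mem_centralizer_iff.1 u.2 _ hr)
  set f := MonoidHom.transferSylow S hnorm with hf
  have hcompl : Subgroup.IsComplement' f.ker (S : Subgroup C) :=
    MonoidHom.ker_transferSylow_isComplement' S hnorm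
  have hodd : Odd (Nat.card f.ker) := by
    rw [← Nat.not_even_iff_odd, even_iff_two_dvd, ← hcompl.index_eq_card]
    exact S.not_dvd_index
  set O := f.ker.map C.subtype with hO
  have hOcard : Nat.card O = Nat.card f.ker := card_map_of_injective C.subtype_injective
  haveI hOn : O.Normal := by
    refine ⟨?_⟩
    rintro _ ⟨u, hu, rfl⟩ k
    have hCn : C.Normal := centralizer_normal Q
    refine ⟨⟨k * u * k⁻¹, hCn.conj_mem _ u.2 k⟩, ?_, rfl⟩
    let e : C →* C := ((MulAut.conj k).toMonoidHom.comp C.subtype).codRestrict C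
      fun v => hCn.conj_mem _ v.2 k
    exact map_eq_one_of_odd S.2 (f.comp e) hodd hu
  have hOle : O ≤ oddCore X := CfsgLib.Cores.le_oddCore_of_odd (hOcard ▸ hodd)
  have hoC : oddCore X ≤ C := by
    intro o ho
    refine mem_centralizer_iff.2 fun q hq => ?_
    have h1 : q * o * q⁻¹ * o⁻¹ ∈ Q := by
      rw [show q * o * q⁻¹ * o⁻¹ = q * (o * q⁻¹ * o⁻¹) by group]
      exact mul_mem hq (Subgroup.Normal.conj_mem inferInstance _ (inv_mem hq) o)
    have h2 : q * o * q⁻¹ * o⁻¹ ∈ oddCore X :=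
      mul_mem ((inferInstance : (oddCore X).Normal).conj_mem o ho q) (inv_mem ho)
    obtain ⟨k, hk⟩ := hQ2 ⟨_, h1⟩
    have h3 := eq_one_of_two_pow (congrArg Subtype.val hk) CfsgLib.Cores.odd_card_oddCore h2
    exact commutatorElement_eq_one_iff_mul_comm.1 (by rw [commutatorElement_def]; exact h3)
  have hOeq : O = oddCore X := le_antisymm hOle fun o ho =>
    ⟨⟨o, hoC ho⟩, map_eq_one_of_odd S.2 f (N := (oddCore X).subgroupOf C) (by
      rw [Nat.card_congr (Subgroup.subgroupOfEquivOfLe hoC).toEquiv]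
      exact CfsgLib.Cores.odd_card_oddCore) ho, rfl⟩
  refine ⟨hoC, fun c hc => ?_, ?_⟩
  · obtain ⟨⟨o, q⟩, he⟩ := hcompl.2 ⟨c, hc⟩
    have hq : ((q : C) : X) ∈ Q := by
      exact (SetLike.ext_iff.1 hSQ (q : C)).1 q.2
    refine ⟨_, hq, _, hOle ⟨_, o.2, rfl⟩, ?_⟩
    have he' : ((o : C) : X) * ((q : C) : X) = c := congrArg Subtype.val he
    rw [← he']
    exact (mem_centralizer_iff.1 (o : C).2 _ hq).symm
  · rw [← hcompl.card_mul_card, ← hOcard, hOeq, hSQ,
      Nat.card_congr (Subgroup.subgroupOfEquivOfLe hQC).toEquiv, mul_comm]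

set_option synthInstance.maxSize 1024 in
theorem perm_three_facts : (∀ σ : Equiv.Perm (Fin 3), σ ^ 3 = 1 → σ ≠ 1 → ∀ i : Fin 3, σ i ≠ i) ∧
    (∀ σ τ : Equiv.Perm (Fin 3), σ ^ 3 = 1 → τ ^ 2 = 1 → σ * τ = τ * σ → σ = 1 ∨ τ = 1) := by
  constructor
  · decide
  · decide

theorem zmod_two_cases : ∀ a b d : Multiplicative (ZMod 2), d ≠ 1 → a = b ∨ a * d = b := by decide

theorem zmod_two_pair : ∀ a b d e c : Multiplicative (ZMod 2), d ≠ 1 → e ≠ 1 →
    ∃ i j : Fin 2, d ^ (i : ℕ) = a ∧ c ^ (i : ℕ) * e ^ (j : ℕ) = b := by decide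

/-- The `S₄` recognition. -/
theorem perm_four_quotient [(oddCore X).Normal] (P : Sylow 2 X) (Q : Subgroup X) [Q.Normal]
    (hQP : Q ≤ P) (hQ4 : Nat.card Q = 4) (hP8 : Nat.card P = 8) (hQe : ∀ q ∈ Q, q * q = 1)
    (hC : ∀ u ∈ (P : Subgroup X), u ∈ centralizer (Q : Set X) → u ∈ Q)
    {z : X} (hz : z ∈ Q) (hzP : ∀ u ∈ (P : Subgroup X), u * z = z * u) {h : X}
    (hh : h * z ≠ z * h) : Nonempty (X ⧸ oddCore X ≃* Equiv.Perm (Fin 4)) := by
  classical
  have hinv : ∀ q ∈ Q, q⁻¹ = q := fun q hq => inv_eq_of_mul_eq_one_right (hQe q hq)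
  have hab : ∀ a ∈ Q, ∀ b ∈ Q, a * b = b * a := fun a ha b hb => by
    rw [← hinv _ (mul_mem ha hb), mul_inv_rev, hinv a ha, hinv b hb]
  obtain ⟨hOC, hsplit, hcardC⟩ := centralizer_split P Q hab hQP hC
  let T := {q : Q // q ≠ 1}
  have hT : Nat.card T = 3 := by
    haveI : Fintype Q := Fintype.ofFinite _
    rw [Nat.card_eq_fintype_card, Fintype.card_subtype_compl, Fintype.card_subtype_eq,
      ← Nat.card_eq_fintype_card, hQ4]
  haveI : Finite T := Subtype.finite
  let e : T ≃ Fin 3 := Finite.equivFinOfCardEq hT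
  let act : X → Equiv.Perm T := fun u =>
    (MulAut.conjNormal u : MulAut Q).toEquiv.subtypeEquiv fun q => by simp
  let ρ : X →* Equiv.Perm T :=
    { toFun := act
      map_one' := Equiv.ext fun q => Subtype.ext (show (MulAut.conjNormal (1 : X) : MulAut Q) (q : Q) = q by
        rw [map_one]; rfl)
      map_mul' := fun a b => Equiv.ext fun q => Subtype.ext (show
        (MulAut.conjNormal (a * b) : MulAut Q) (q : Q)
          = (MulAut.conjNormal a : MulAut Q) ((MulAut.conjNormal b : MulAut Q) (q : Q)) by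
        rw [map_mul]; rfl) }
  have hρ : ∀ u : X, ∀ q : T, ((ρ u q : Q) : X) = u * (q : Q) * u⁻¹ := fun u q =>
    MulAut.conjNormal_apply u (q : Q)
  let σ : X →* Equiv.Perm (Fin 3) := e.permCongrHom.toMonoidHom.comp ρ
  have hσ : σ.ker = centralizer (Q : Set X) := by
    ext u
    rw [MonoidHom.mem_ker, mem_centralizer_iff]
    constructor
    · intro hu q hq
      rcases eq_or_ne q 1 with rfl | hq1
      · simp
      have h1 : ρ u = 1 := e.permCongrHom.injective (by rw [map_one]; exact hu)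
      have h2 := hρ u ⟨⟨q, hq⟩, fun e => hq1 (congrArg Subtype.val e)⟩
      rw [h1] at h2
      exact (mul_inv_eq_iff_eq_mul.1 h2.symm).symm
    · intro hu
      have h1 : ρ u = 1 := by
        ext q
        rw [hρ, (hu _ (q : Q).2).symm, mul_inv_cancel_right]
        rfl
      show e.permCongrHom (ρ u) = 1
      rw [h1, map_one]
  have hi : (centralizer (Q : Set X)).index ∣ 6 := by
    rw [← hσ, Subgroup.index_ker]
    exact (Subgroup.card_subgroup_dvd_card _).trans (dvd_of_eq (by simp [Nat.card_perm]; rfl))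
  have hPC : ¬ (P : Subgroup X) ≤ centralizer (Q : Set X) := fun hle => by
    have := Subgroup.card_le_of_le (fun u hu => hC u hu (hle hu) : (P : Subgroup X) ≤ Q)
    omega
  have hi6 : (centralizer (Q : Set X)).index = 6 := by
    have h2 : 2 ∣ (centralizer (Q : Set X)).index := by
      rw [← hσ, Subgroup.index_ker]
      obtain ⟨u, hu, huC⟩ := SetLike.not_le_iff_exists.1 hPC
      obtain ⟨k, hk⟩ := P.2 ⟨u, hu⟩
      have hku : (σ u) ^ 2 ^ k = 1 := by
        rw [← map_pow, show u ^ 2 ^ k = 1 from congrArg Subtype.val hk, map_one]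
      obtain ⟨j, -, hj⟩ := (Nat.dvd_prime_pow Nat.prime_two).1 (orderOf_dvd_of_pow_eq_one hku)
      have hj0 : j ≠ 0 := fun e => huC (hσ ▸ MonoidHom.mem_ker.2 (orderOf_eq_one_iff.1
        (by rw [hj, e, pow_zero])))
      exact ((dvd_pow_self 2 hj0).trans (dvd_of_eq (by rw [← hj]; exact (Subgroup.orderOf_mk _ _).symm))).trans
        (orderOf_dvd_natCard (⟨σ u, u, rfl⟩ : σ.range))
    have h3 : (centralizer (Q : Set X)).index ≠ 2 := by
      intro hi2
      obtain ⟨u, hu, huC⟩ := SetLike.not_le_iff_exists.1 hPC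
      apply hh
      by_cases hhC : h ∈ centralizer (Q : Set X)
      · exact (mem_centralizer_iff.1 hhC z hz).symm
      have h4 : u⁻¹ * h ∈ centralizer (Q : Set X) :=
        (Subgroup.mul_mem_iff_of_index_two hi2).2 (by simp [huC, hhC])
      calc h * z = u * ((u⁻¹ * h) * z) := by group
        _ = u * (z * (u⁻¹ * h)) := by rw [(mem_centralizer_iff.1 h4 z hz)]
        _ = (u * z) * (u⁻¹ * h) := by group
        _ = z * h := by rw [hzP u hu]; group
    have h5 := Nat.le_of_dvd (by omega) hi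
    interval_cases hv : (centralizer (Q : Set X)).index <;> first | rfl | omega
  have hcard : Nat.card (X ⧸ oddCore X) = 24 := by
    have h1 := (centralizer (Q : Set X)).card_mul_index
    rw [hi6, hcardC, hQ4] at h1
    have h2 := Subgroup.card_eq_card_quotient_mul_card_subgroup (oddCore X)
    have h3 : 0 < Nat.card (oddCore X) := Nat.card_pos
    nlinarith
  let σ' : X ⧸ oddCore X →* Equiv.Perm (Fin 3) :=
    QuotientGroup.lift (oddCore X) σ (by rw [hσ]; exact hOC)
  refine CfsgLib.Classical.Dickson.sym_four_of hcard fun a b ha hb hab' => ?_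
  obtain ⟨a0, rfl⟩ := QuotientGroup.mk_surjective a
  obtain ⟨b0, rfl⟩ := QuotientGroup.mk_surjective b
  have hker : ∀ u : X, σ u = 1 → ((u : X ⧸ oddCore X)) * u = 1 := by
    intro u hu
    obtain ⟨q, hq, o, ho, rfl⟩ := hsplit u (hσ ▸ MonoidHom.mem_ker.2 hu)
    rw [QuotientGroup.mk_mul, (QuotientGroup.eq_one_iff o).2 ho, mul_one, ← QuotientGroup.mk_mul,
      hQe q hq, QuotientGroup.mk_one]
  have hb1 : σ b0 ≠ 1 := fun h1 => by
    have := orderOf_dvd_of_pow_eq_one (pow_two (b0 : X ⧸ oddCore X) ▸ hker b0 h1)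
    rw [hb] at this
    norm_num at this
  have hb3 : σ b0 ^ 3 = 1 := by
    have := congrArg σ' (hb ▸ pow_orderOf_eq_one (b0 : X ⧸ oddCore X))
    simpa [map_pow, σ'] using this
  by_cases ha1 : σ a0 = 1
  · obtain ⟨q, hq, o, ho, rfl⟩ := hsplit a0 (hσ ▸ MonoidHom.mem_ker.2 ha1)
    have hq1 : q ≠ 1 := fun e => by
      rw [e, one_mul, (QuotientGroup.eq_one_iff o).2 ho, orderOf_one] at ha
      norm_num at ha
    rw [QuotientGroup.mk_mul, (QuotientGroup.eq_one_iff o).2 ho, mul_one] at hab'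
    have hm : b0 * q * b0⁻¹ * q⁻¹ ∈ oddCore X := by
      rw [← QuotientGroup.eq_one_iff]
      simp only [QuotientGroup.mk_mul, QuotientGroup.mk_inv, ← hab'.eq, mul_inv_cancel_right]
      group
    have hm2 : b0 * q * b0⁻¹ * q⁻¹ ∈ Q :=
      mul_mem (Subgroup.Normal.conj_mem inferInstance _ hq b0) (inv_mem hq)
    have hfix := eq_one_of_two_pow (k := 1) (by rw [pow_one, pow_two]; exact hQe _ hm2)
      CfsgLib.Cores.odd_card_oddCore hm
    let qT : T := ⟨⟨q, hq⟩, fun e => hq1 (congrArg Subtype.val e)⟩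
    refine perm_three_facts.1 _ hb3 hb1 (e qT) ?_
    have : ρ b0 qT = qT := Subtype.ext (Subtype.ext (by rw [hρ]; exact mul_inv_eq_one.1 hfix))
    simp [σ, this]
  · have ha2 : σ a0 ^ 2 = 1 := by
      have := congrArg σ' (ha ▸ pow_orderOf_eq_one (a0 : X ⧸ oddCore X))
      simpa [map_pow, σ'] using this
    have hc : σ b0 * σ a0 = σ a0 * σ b0 := by simpa [σ'] using (congrArg σ' hab'.eq).symm
    rcases perm_three_facts.2 _ _ hb3 ha2 hc with h1 | h1
    · exact hb1 h1
    · exact ha1 h1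

/-- A homomorphism onto a group of order two which is nontrivial on a given central involution of a
Sylow subgroup. -/
theorem exists_character (P : Sylow 2 X) {f : X} (hfP : f ∈ (P : Subgroup X))
    (hfc : ∀ u : X, u * f = f * u) (hf2 : f * f = 1) (M : Subgroup P) [M.Normal]
    (hM : M.index = 2) (hfM : (⟨f, hfP⟩ : P) ∉ M) :
    ∃ χ : X →* Multiplicative (ZMod 2), χ f ≠ 1 := by
  haveI : Fact (Nat.Prime 2) := ⟨Nat.prime_two⟩
  let e : ↥P ⧸ M ≃* Multiplicative (ZMod 2) :=
    mulEquivOfPrimeCardEq (p := 2) (by rw [← Subgroup.index_eq_card, hM]) (by simp)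
  let φ : (P : Subgroup X) →* Multiplicative (ZMod 2) := e.toMonoidHom.comp (QuotientGroup.mk' M)
  refine ⟨φ.transfer, ?_⟩
  have key : ∀ (k : ℕ) (g₀ : X), g₀⁻¹ * f ^ k * g₀ ∈ (P : Subgroup X) →
      g₀⁻¹ * f ^ k * g₀ = f ^ k := fun k g₀ _ => by
    rw [mul_assoc, ← (Commute.pow_right (hfc g₀) k).eq, inv_mul_cancel_left]
  rw [MonoidHom.transfer_eq_pow φ f key]
  have hodd : f ^ (P : Subgroup X).index = f := by
    obtain ⟨m, hm⟩ := (Nat.not_even_iff_odd.1 fun h => P.not_dvd_index (even_iff_two_dvd.1 h))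
    rw [hm, pow_succ, pow_mul, pow_two, hf2, one_pow, one_mul]
  intro h
  refine hfM ((QuotientGroup.eq_one_iff _).1 (e.injective ?_))
  rw [map_one, ← h]
  simp [φ, hodd]

theorem quotient_equiv_of_surjective [(oddCore X).Normal] {A : Type*} [Group A] (Φ : X →* A)
    (hs : Function.Surjective Φ) (hle : oddCore X ≤ Φ.ker)
    (hodd : ∀ u : X, orderOf u = 2 → Φ u ≠ 1) : Nonempty (X ⧸ oddCore X ≃* A) := by
  have hN : Odd (Nat.card Φ.ker) := by
    rw [← Nat.not_even_iff_odd, even_iff_two_dvd]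
    intro h
    obtain ⟨⟨u, hu⟩, ho⟩ := exists_prime_orderOf_dvd_card' 2 h
    rw [Subgroup.orderOf_mk] at ho
    exact hodd u ho hu
  exact ⟨(QuotientGroup.quotientMulEquivOfEq
    (le_antisymm hle (CfsgLib.Cores.le_oddCore_of_odd hN))).trans
    (QuotientGroup.quotientKerEquivOfSurjective Φ hs)⟩

theorem isPGroup_zmod_two : IsPGroup 2 (Multiplicative (ZMod 2)) :=
  IsPGroup.of_card (n := 1) (by simp)

/-- The `S₄ × 2` recognition. -/
theorem perm_four_prod_quotient [(oddCore X).Normal] (P : Sylow 2 X) (Q : Subgroup X) [Q.Normal]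
    (hQP : Q ≤ P) (hQ8 : Nat.card Q = 8) (hP16 : Nat.card P = 16) (hQe : ∀ q ∈ Q, q * q = 1)
    {f : X} (hf : f ∈ Q) (hf1 : f ≠ 1) (hfc : ∀ u : X, u * f = f * u)
    (hC : ∀ u ∈ (P : Subgroup X), (∀ q ∈ Q, ⁅u, q⁆ ∈ zpowers f) → u ∈ Q)
    {z : X} (hz : z ∈ Q) (hzP : ∀ u ∈ (P : Subgroup X), u * z = z * u) {h : X}
    (hh : ⁅h, z⁆ ∉ zpowers f) (M : Subgroup P) [M.Normal] (hM : M.index = 2)
    (hfM : (⟨f, hQP hf⟩ : P) ∉ M) :
    Nonempty (X ⧸ oddCore X ≃* Equiv.Perm (Fin 4) × Multiplicative (ZMod 2)) := by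
  haveI : Fact (Nat.Prime 2) := ⟨Nat.prime_two⟩
  have hf2 : f * f = 1 := hQe f hf
  obtain ⟨χ, hχ⟩ := exists_character P (hQP hf) hfc hf2 M hM hfM
  set F := zpowers f with hF
  haveI : F.Normal := ⟨fun u hu k => by
    obtain ⟨i, rfl⟩ := mem_zpowers_iff.1 hu
    rw [(Commute.zpow_right (hfc k) i).eq, mul_inv_cancel_right]
    exact zpow_mem_zpowers f i⟩
  have hF2 : Nat.card F = 2 := by
    rw [Nat.card_zpowers, orderOf_eq_prime (by rw [pow_two]; exact hf2) hf1]
  set π := QuotientGroup.mk' F with hπ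
  have hsurj : Function.Surjective π := QuotientGroup.mk'_surjective F
  let P' : Sylow 2 (X ⧸ F) := P.mapSurjective hsurj
  have hP' : (P' : Subgroup (X ⧸ F)) = (P : Subgroup X).map π := Sylow.coe_mapSurjective hsurj P
  haveI : (Q.map π).Normal := Subgroup.Normal.map inferInstance π hsurj
  have hcard : ∀ K : Subgroup X, f ∈ K → Nat.card (K.map π) * 2 = Nat.card K := fun K hK => by
    have h1 : F ≤ K := zpowers_le.2 hK
    rw [← Subgroup.relIndex_ker, hπ, QuotientGroup.ker_mk']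
    have h2 := (F.subgroupOf K).card_mul_index
    rw [Nat.card_congr (Subgroup.subgroupOfEquivOfLe h1).toEquiv, hF2, mul_comm] at h2
    exact h2
  obtain ⟨ψ⟩ := perm_four_quotient (X := X ⧸ F) P' (Q.map π) (hP' ▸ map_mono hQP)
    (by have := hcard Q hf; omega)
    (by rw [hP']; have := hcard (P : Subgroup X) (hQP hf); omega)
    (by rintro _ ⟨q, hq, rfl⟩; rw [← map_mul, hQe q hq, map_one])
    (fun u hu hcen => by
      rw [hP'] at hu
      obtain ⟨p, hp, rfl⟩ := hu
      refine ⟨p, hC p hp fun q hq => ?_, rfl⟩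
      rw [← QuotientGroup.eq_one_iff, ← QuotientGroup.mk'_apply, map_commutatorElement,
        commutatorElement_eq_one_iff_mul_comm]
      exact (mem_centralizer_iff.1 hcen _ ⟨q, hq, rfl⟩).symm)
    (z := π z) ⟨z, hz, rfl⟩
    (fun u hu => by
      rw [hP'] at hu
      obtain ⟨p, hp, rfl⟩ := hu
      rw [← map_mul, ← map_mul, hzP p hp])
    (h := π h) (fun hc => hh (by
      rw [← QuotientGroup.eq_one_iff, ← QuotientGroup.mk'_apply, map_commutatorElement,
        commutatorElement_eq_one_iff_mul_comm]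
      exact hc))
  set η : X →* Equiv.Perm (Fin 4) :=
    ψ.toMonoidHom.comp ((QuotientGroup.mk' (oddCore (X ⧸ F))).comp π) with hη
  have hηs : Function.Surjective η :=
    ψ.surjective.comp ((QuotientGroup.mk'_surjective _).comp hsurj)
  refine quotient_equiv_of_surjective (η.prod χ) ?_ ?_ ?_
  · rintro ⟨a, c⟩
    obtain ⟨u, hu⟩ := hηs a
    have hf' : η f = 1 := by
      rw [hη, MonoidHom.comp_apply, MonoidHom.comp_apply,
        show π f = 1 from (QuotientGroup.eq_one_iff f).2 (mem_zpowers f), map_one, map_one]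
    rcases zmod_two_cases (χ u) c (χ f) hχ with h1 | h1
    · exact ⟨u, Prod.ext hu h1⟩
    · exact ⟨u * f, Prod.ext (by simp [hu, hf']) (by simpa using h1)⟩
  · intro u hu
    refine Prod.ext ?_ (map_eq_one_of_odd isPGroup_zmod_two χ CfsgLib.Cores.odd_card_oddCore hu)
    show η u = 1
    have hle : (oddCore X).map π ≤ oddCore (X ⧸ F) := by
      haveI : ((oddCore X).map π).Normal := Subgroup.Normal.map inferInstance π hsurj
      refine CfsgLib.Cores.le_oddCore_of_odd ?_
      exact Odd.of_dvd_nat CfsgLib.Cores.odd_card_oddCore (Subgroup.card_map_dvd _ _)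
    rw [hη, MonoidHom.comp_apply, MonoidHom.comp_apply,
      show (QuotientGroup.mk' (oddCore (X ⧸ F))) (π u) = 1 from
        (QuotientGroup.eq_one_iff _).2 (hle ⟨u, hu, rfl⟩), map_one]
  · intro u hu hk
    have h1 : η u = 1 := congrArg Prod.fst hk
    have h2 : χ u = 1 := congrArg Prod.snd hk
    rw [hη, MonoidHom.comp_apply, MulEquiv.coe_toMonoidHom, EmbeddingLike.map_eq_one_iff,
      MonoidHom.comp_apply] at h1
    have h3 : π u ^ 2 ^ 1 = 1 := by rw [← map_pow, pow_one, ← hu, pow_orderOf_eq_one, map_one]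
    have h4 := eq_one_of_two_pow h3 CfsgLib.Cores.odd_card_oddCore ((QuotientGroup.eq_one_iff _).1 h1)
    obtain ⟨i, rfl⟩ := mem_zpowers_iff.1 ((QuotientGroup.eq_one_iff u).1 h4)
    rcases Int.even_or_odd i with ⟨j, rfl⟩ | ⟨j, rfl⟩
    · rw [← two_mul, zpow_mul, zpow_two, hf2, one_zpow, orderOf_one] at hu
      norm_num at hu
    · rw [zpow_add, zpow_mul, zpow_two, hf2, one_zpow, one_mul, zpow_one] at h2
      exact hχ h2

/-- The four-group recognition. -/
theorem four_quotient [(oddCore X).Normal] (P : Sylow 2 X) (hP4 : Nat.card P = 4)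
    (hPe : ∀ u ∈ (P : Subgroup X), u * u = 1) {f : X} (hfP : f ∈ (P : Subgroup X))
    (hfc : ∀ u : X, u * f = f * u) (χ : X →* Multiplicative (ZMod 2)) (hχf : χ f = 1)
    {t : X} (ht : t ∈ (P : Subgroup X)) (hχt : χ t ≠ 1) (hf1 : f ≠ 1) :
    Nonempty (X ⧸ oddCore X ≃* Multiplicative (ZMod 2) × Multiplicative (ZMod 2)) := by
  haveI : Fact (Nat.Prime 2) := ⟨Nat.prime_two⟩
  let M : Subgroup (P : Subgroup X) := zpowers ⟨t, ht⟩
  have ht1 : t ≠ 1 := fun e => hχt (by rw [e, map_one])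
  have hto : orderOf (⟨t, ht⟩ : (P : Subgroup X)) = 2 :=
    orderOf_eq_prime (Subtype.ext (by show t ^ 2 = 1; rw [pow_two]; exact hPe t ht))
      fun e => ht1 (congrArg Subtype.val e)
  have hMi : M.index = 2 := by
    have h := M.card_mul_index
    rw [Nat.card_zpowers, hto, hP4] at h
    omega
  haveI : M.Normal := Subgroup.normal_of_index_eq_two hMi
  have hfM : (⟨f, hfP⟩ : (P : Subgroup X)) ∉ M := by
    intro hm
    obtain ⟨i, hi⟩ := mem_zpowers_iff.1 hm
    have hi' : t ^ i = f := by simpa using congrArg Subtype.val hi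
    rcases Int.even_or_odd i with ⟨j, rfl⟩ | ⟨j, rfl⟩
    · rw [← two_mul, zpow_mul, zpow_two, hPe t ht, one_zpow] at hi'
      exact hf1 hi'.symm
    · rw [zpow_add, zpow_mul, zpow_two, hPe t ht, one_zpow, one_mul, zpow_one] at hi'
      exact hχt (hi' ▸ hχf)
  obtain ⟨χ', hχ'⟩ := exists_character P hfP hfc (hPe f hfP) M hMi hfM
  refine quotient_equiv_of_surjective (χ.prod χ') ?_ ?_ ?_
  · rintro ⟨a, b⟩
    obtain ⟨i, j, h1, h2⟩ := zmod_two_pair a b (χ t) (χ' f) (χ' t) hχt hχ'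
    exact ⟨t ^ (i : ℕ) * f ^ (j : ℕ), Prod.ext (by simp [hχf, h1]) (by simpa using h2)⟩
  · intro u hu
    exact Prod.ext (map_eq_one_of_odd isPGroup_zmod_two χ CfsgLib.Cores.odd_card_oddCore hu)
      (map_eq_one_of_odd isPGroup_zmod_two χ' CfsgLib.Cores.odd_card_oddCore hu)
  · intro u hu hk
    obtain ⟨R, hR⟩ := (IsPGroup.of_card (p := 2) (n := 1) (G := zpowers u)
      (by rw [Nat.card_zpowers, hu, pow_one])).exists_le_sylow
    obtain ⟨k, rfl⟩ := MulAction.exists_smul_eq X P R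
    have h1 := hR (mem_zpowers u)
    rw [Sylow.coe_subgroup_smul, Subgroup.mem_pointwise_smul_iff_inv_smul_mem] at h1
    have h2 : k⁻¹ * u * k ∈ (P : Subgroup X) := by
      simpa [← map_inv, MulAut.smul_def] using h1
    set v := k⁻¹ * u * k with hv
    have hv1 : (χ.prod χ') v = 1 := by
      rw [hv, map_mul, map_mul, hk, mul_one, ← map_mul, inv_mul_cancel, map_one]
    have hv2 : v ≠ 1 := fun e => by
      have : u = 1 := by rw [show u = k * v * k⁻¹ by rw [hv]; group, e]; group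
      rw [this, orderOf_one] at hu
      norm_num at hu
    let N : Subgroup (P : Subgroup X) := zpowers ⟨f, hfP⟩ ⊔ M
    have hN : N = ⊤ := by
      apply Subgroup.eq_top_of_card_eq
      have hlt : M < N := lt_of_le_of_ne le_sup_right fun e =>
        hfM (e.symm ▸ mem_sup_left (mem_zpowers _))
      have h3 := Subgroup.card_dvd_of_le hlt.le
      have h4 := Subgroup.card_subgroup_dvd_card N
      have h5 : Nat.card M < Nat.card N := by
        by_contra hle
        exact hlt.ne (Subgroup.eq_of_le_of_card_ge hlt.le (by omega))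
      rw [Nat.card_zpowers, hto] at h3 h5
      rw [hP4] at h4 ⊢
      have := Nat.le_of_dvd (by omega) h4
      interval_cases Nat.card N <;> omega
    have hmem : (⟨v, h2⟩ : (P : Subgroup X)) ∈ N := hN ▸ mem_top _
    rw [Subgroup.mem_sup_of_normal_right] at hmem
    obtain ⟨a, ha, b, hb, hab⟩ := hmem
    obtain ⟨i, rfl⟩ := mem_zpowers_iff.1 ha
    obtain ⟨j, rfl⟩ := mem_zpowers_iff.1 hb
    have hval : f ^ i * t ^ j = v := by simpa using congrArg Subtype.val hab
    have hz : ∀ w ∈ (P : Subgroup X), ∀ m : ℤ, w ^ m = 1 ∨ w ^ m = w := fun w hw m => by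
      rcases Int.even_or_odd m with ⟨l, rfl⟩ | ⟨l, rfl⟩
      · exact Or.inl (by rw [← two_mul, zpow_mul, zpow_two, hPe w hw, one_zpow])
      · exact Or.inr (by rw [zpow_add, zpow_mul, zpow_two, hPe w hw, one_zpow, one_mul, zpow_one])
    rw [← hval] at hv1 hv2
    have hv1a : χ (f ^ i * t ^ j) = 1 := congrArg Prod.fst hv1
    have hv1b : χ' (f ^ i * t ^ j) = 1 := congrArg Prod.snd hv1
    rcases hz t ht j with e | e <;> rcases hz f hfP i with e' | e' <;>
      rw [e, e'] at hv1a hv1b hv2 <;>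
      first
        | exact hv2 (mul_one 1)
        | exact hχt (by rwa [map_mul, hχf, one_mul] at hv1a)
        | exact hχt (by rwa [one_mul] at hv1a)
        | exact hχ' (by rwa [mul_one] at hv1b)

end CfsgLib.LocalEven.DihedralPushUp
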