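import Cfsg.Agent.Lib.LocalEven.DihedralPushUp.Bound
import Cfsg.Agent.Lib.LocalEven.DihedralPushUp.Quotient
import Cfsg.Prelude.Def_Solvable

/-!
A subgroup `H` with `H / O₂(H)` dihedral and a Sylow `2`-subgroup `P` normalised by an element `y`
that normalises no nontrivial normal subgroup of `H` inside `P`: `|P| ≤ 16` and
`H / O(H)` is a four-group, `S₄` or `S₄ × 2`.
-/

set_option autoImplicit false

namespace CfsgLib.LocalEven.DihedralPushUp

open Subgroup Cfsg Pointwise
open scoped commutatorElement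

variable {G : Type*} [Group G] [Finite G]

theorem smul_eq_cnj (y : G) (K : Subgroup G) : MulAut.conj y • K = cnj y K := by
  ext u
  rw [Subgroup.mem_pointwise_smul_iff_inv_smul_mem, mem_cnj]
  simp [← map_inv, MulAut.smul_def]

/-- The homomorphism of a dihedral group killing the rotations. -/
def signHom (n : ℕ) : DihedralGroup n →* Multiplicative (ZMod 2) where
  toFun
    | .r _ => 1
    | .sr _ => Multiplicative.ofAdd 1
  map_one' := rfl
  map_mul' := by
    rintro (a | a) (b | b) <;>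
      simp [DihedralGroup.r_mul_r, DihedralGroup.r_mul_sr, DihedralGroup.sr_mul_r,
        DihedralGroup.sr_mul_sr] <;> rfl

namespace Dist

variable {P H : Subgroup G} {g y x : G} {s a : ℕ} (D : Dist P g x s a)
include D

theorem W_comm_W {i j : ℕ} (hj : j ≤ i + a) {b c : G} (hb : b ∈ W g x i j) (hc : c ∈ W g x i j) :
    Commute b c :=
  (W_comm (fun k k1 k2 => (W_comm (fun l l1 l2 => D.comm' k l (by omega) (by omega)) hc).symm)
    hb).symm

theorem W_sq {i j : ℕ} (hj : j ≤ i + a) {z : G} (hz : z ∈ W g x i j) : z * z = 1 := by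
  induction hz using Subgroup.closure_induction with
  | mem z hz => obtain ⟨k, -, rfl⟩ := hz; exact D.sq k
  | one => simp
  | mul b c hb hc ihb ihc =>
    rw [mul_assoc, ← mul_assoc c, (D.W_comm_W hj hc hb).eq, mul_assoc b c, ihc, mul_one, ihb]
  | inv b _ ihb => rw [← mul_inv_rev, ihb, inv_one]

end Dist

theorem ofAdd_one_ne_one : Multiplicative.ofAdd (1 : ZMod 2) ≠ 1 := by decide

/-- Data for the theorem. -/
theorem main (H : Subgroup G) (hO : pCore 2 ↥H ≠ ⊥) (n : ℕ) (hn : 2 ≤ n)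
    (hdih : Nonempty (↥H ⧸ pCore 2 ↥H ≃* DihedralGroup n))
    (P : Subgroup G) (hPH : P ≤ H) (hP : IsPGroup 2 P) (hPsyl : ¬ 2 ∣ P.relIndex H)
    (y : G) (hy2 : y ^ 2 ∈ P ⊔ centralizer (P : Set G)) (hyN : MulAut.conj y • P = P)
    (hyQ : ∀ Q : Subgroup G, Q ≤ P → (Q.subgroupOf H).Normal → MulAut.conj y • Q = Q → Q = ⊥) :
    (Nat.card P = 4 ∨ Nat.card P = 8 ∨ Nat.card P = 16) ∧
    (Nonempty (↥H ⧸ oddCore ↥H ≃* Multiplicative (ZMod 2) × Multiplicative (ZMod 2)) ∨
     Nonempty (↥H ⧸ oddCore ↥H ≃* Equiv.Perm (Fin 4)) ∨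
     Nonempty (↥H ⧸ oddCore ↥H ≃* Equiv.Perm (Fin 4) × Multiplicative (ZMod 2))) := by
  classical
  haveI : Fact (Nat.Prime 2) := ⟨Nat.prime_two⟩
  haveI : NeZero n := ⟨by omega⟩
  obtain ⟨e⟩ := hdih
  set π : ↥H →* DihedralGroup n := e.toMonoidHom.comp (QuotientGroup.mk' (pCore 2 ↥H)) with hπ
  have hπs : Function.Surjective π := e.surjective.comp (QuotientGroup.mk'_surjective _)
  have hπk : π.ker = pCore 2 ↥H := by
    ext u
    rw [MonoidHom.mem_ker, hπ, MonoidHom.comp_apply, MulEquiv.coe_toMonoidHom,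
      EmbeddingLike.map_eq_one_iff, QuotientGroup.mk'_apply, QuotientGroup.eq_one_iff]
  -- `n` is odd
  have hodd : Odd n := by
    rw [← Nat.not_even_iff_odd]
    rintro ⟨m, rfl⟩
    set c : DihedralGroup (m + m) := DihedralGroup.r (m : ZMod (m + m)) with hc
    have hmm : ((m : ZMod (m + m)) + m) = 0 := by
      rw [← Nat.cast_add, ZMod.natCast_self]
    have hcc : ∀ u, u * c = c * u := by
      rintro (b | b)
      · simp only [hc, DihedralGroup.r_mul_r]
        exact congrArg DihedralGroup.r (add_comm _ _)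
      · rw [hc, DihedralGroup.sr_mul_r, DihedralGroup.r_mul_sr, sub_eq_add_neg,
          neg_eq_of_add_eq_zero_left hmm]
    haveI : (zpowers c).Normal := ⟨fun u hu k => by
      obtain ⟨i, rfl⟩ := mem_zpowers_iff.1 hu
      rw [(Commute.zpow_right (hcc k) i).eq, mul_inv_cancel_right]
      exact zpow_mem_zpowers c i⟩
    have hc2 : c ^ 2 = 1 := by
      rw [pow_two, hc, DihedralGroup.r_mul_r, hmm]; rfl
    have hc1 : c ≠ 1 := by
      rw [hc, DihedralGroup.one_def]
      intro h
      have h' := DihedralGroup.r.inj h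
      rw [ZMod.natCast_eq_zero_iff] at h'
      exact absurd (Nat.le_of_dvd (by omega) h') (by omega)
    haveI : ((zpowers c).comap π).Normal := inferInstance
    have h2 : IsPGroup 2 ↥((zpowers c).comap π) := by
      refine IsPGroup.comap_of_ker_isPGroup (IsPGroup.of_card (n := 1) ?_) π ?_
      · rw [Nat.card_zpowers, orderOf_eq_prime hc2 hc1, pow_one]
      · rw [hπk]; exact CfsgLib.Cores.isPGroup_pCore 2
    obtain ⟨u, hu⟩ := hπs c
    have hmem : u ∈ π.ker := by
      rw [hπk]
      exact CfsgLib.Cores.le_pCore h2 (show π u ∈ zpowers c from hu ▸ mem_zpowers c)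
    exact hc1 (hu ▸ hmem)
  have hn3 : 3 ≤ n := by obtain ⟨m, rfl⟩ := hodd; omega
  have h2n : (2 : ZMod n) ≠ 0 := by
    intro h
    have h' : ((2 : ℕ) : ZMod n) = 0 := by exact_mod_cast h
    rw [ZMod.natCast_eq_zero_iff] at h'
    exact absurd (Nat.le_of_dvd (by norm_num) h') (by omega)
  -- the Sylow subgroup of `H`
  let S' : Sylow 2 ↥H := (hP.comap_subtype (K := H)).toSylow hPsyl
  have hS' : (S' : Subgroup ↥H) = P.subgroupOf H := rfl
  have hQP' : pCore 2 ↥H ≤ P.subgroupOf H := hS' ▸ CfsgLib.Cores.pCore_le_sylow S'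
  have himg : Nat.card ↥((S' : Subgroup ↥H).map π) = 2 := by
    let T : Sylow 2 (DihedralGroup n) := S'.mapSurjective hπs
    rw [← Sylow.coe_mapSurjective hπs S', T.card_eq_multiplicity, DihedralGroup.nat_card,
      Nat.factorization_mul (by norm_num) (by omega), Finsupp.add_apply,
      Nat.prime_two.factorization, Finsupp.single_eq_same,
      Nat.factorization_eq_zero_of_not_dvd fun h => Nat.not_even_iff_odd.2 hodd
        (even_iff_two_dvd.2 h), add_zero, pow_one]
  have huniq : ∀ u v : ↥H, (u : G) ∈ P → (v : G) ∈ P → π u ≠ 1 → π v ≠ 1 → π u = π v := by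
    intro u v hu hv hu1 hv1
    have h := zpowers_eq_top_of_prime_card himg
      (g := (⟨π u, u, hu, rfl⟩ : ((S' : Subgroup ↥H).map π)))
      (fun h => hu1 (congrArg Subtype.val h))
    have hm : (⟨π v, v, hv, rfl⟩ : ((S' : Subgroup ↥H).map π)) ∈
        zpowers (⟨π u, u, hu, rfl⟩ : ((S' : Subgroup ↥H).map π)) := h ▸ mem_top _
    obtain ⟨i, hi⟩ := mem_zpowers_iff.1 hm
    have hi' : π u ^ i = π v := by simpa using congrArg Subtype.val hi
    have hu2 : π u ^ 2 = 1 := by
      have h2 := orderOf_dvd_natCard (⟨π u, u, hu, rfl⟩ : ((S' : Subgroup ↥H).map π))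
      rw [himg, orderOf_dvd_iff_pow_eq_one] at h2
      exact congrArg Subtype.val h2
    rw [pow_two] at hu2
    rcases Int.even_or_odd i with ⟨j, rfl⟩ | ⟨j, rfl⟩
    · rw [← two_mul, zpow_mul, zpow_two, hu2, one_zpow] at hi'
      exact absurd hi'.symm hv1
    · rw [zpow_add, zpow_mul, zpow_two, hu2, one_zpow, one_mul, zpow_one] at hi'
      exact hi'
  obtain ⟨t, htP, ht1⟩ : ∃ t : ↥H, (t : G) ∈ P ∧ π t ≠ 1 := by
    by_contra hh
    push Not at hh
    have : (S' : Subgroup ↥H).map π = ⊥ := le_bot_iff.1 (by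
      rintro _ ⟨u, hu, rfl⟩
      exact mem_bot.2 (hh u hu))
    rw [this, card_bot] at himg
    omega
  obtain ⟨i, hti⟩ : ∃ i, π t = DihedralGroup.sr i := by
    rcases hv : π t with b | b
    · exfalso
      have h2 := orderOf_dvd_natCard (⟨π t, t, htP, rfl⟩ : ((S' : Subgroup ↥H).map π))
      rw [himg, orderOf_dvd_iff_pow_eq_one] at h2
      have h2' : π t ^ 2 = 1 := congrArg Subtype.val h2
      rw [hv, pow_two, DihedralGroup.r_mul_r, DihedralGroup.one_def] at h2'
      have h3 : (2 : ZMod n) * b = 0 := by rw [two_mul]; exact DihedralGroup.r.inj h2'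
      obtain ⟨m, rfl⟩ := hodd
      have h4 : b = 0 := by
        have h5 : ((m + 1 : ℕ) : ZMod (2 * m + 1)) * 2 = 1 := by
          have := ZMod.natCast_self (2 * m + 1)
          push_cast at this ⊢
          linear_combination this
        calc b = ((m + 1 : ℕ) : ZMod (2 * m + 1)) * 2 * b := by rw [h5, one_mul]
          _ = 0 := by rw [mul_assoc, h3, mul_zero]
      exact ht1 (by rw [hv, h4]; rfl)
    · exact ⟨b, rfl⟩
  obtain ⟨d, hd⟩ := hπs (DihedralGroup.r 1)
  have hyP : cnj y P = P := by rw [← smul_eq_cnj]; exact hyN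
  set g : G := (d : G) * y with hg
  have hgP : cnj g P = cnj (d : G) P := by rw [hg, ← cnj_cnj, hyP]
  have hconjt : π (d⁻¹ * t * d) = DihedralGroup.sr (i + 2) := by
    rw [map_mul, map_mul, map_inv, hd, hti, DihedralGroup.inv_r, DihedralGroup.r_mul_sr,
      DihedralGroup.sr_mul_r]
    congr 1; ring
  have hcoreQ : (pCore 2 ↥H).map H.subtype = P ⊓ cnj g P := by
    rw [hgP]
    apply le_antisymm
    · rintro _ ⟨q, hq, rfl⟩
      refine ⟨hQP' hq, mem_cnj.2 ?_⟩
      have h : d⁻¹ * q * d ∈ pCore 2 ↥H := by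
        simpa using (inferInstance : (pCore 2 ↥H).Normal).conj_mem q hq d⁻¹
      simpa [mem_subgroupOf] using (hQP' h)
    · rintro u ⟨huP, hud⟩
      refine ⟨⟨u, hPH huP⟩, ?_, rfl⟩
      rw [← hπk, SetLike.mem_coe, MonoidHom.mem_ker]
      by_contra hu1
      set v : ↥H := d⁻¹ * ⟨u, hPH huP⟩ * d with hv
      have hvP : (v : G) ∈ P := by simpa [hv] using mem_cnj.1 hud
      have hv1 : π v ≠ 1 := fun h => hu1 (by
        rw [show (⟨u, hPH huP⟩ : ↥H) = d * v * d⁻¹ by rw [hv]; group, map_mul, map_mul, h,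
          mul_one, ← map_mul, mul_inv_cancel, map_one])
      have e1 : π ⟨u, hPH huP⟩ = DihedralGroup.sr i :=
        hti ▸ huniq _ _ huP htP hu1 ht1
      have e2 : π v = DihedralGroup.sr i := hti ▸ huniq _ _ hvP htP hv1 ht1
      rw [hv, map_mul, map_mul, e1, ← hti, ← map_mul, ← map_mul, hconjt, hti] at e2
      have := DihedralGroup.sr.inj e2
      exact h2n (by linear_combination this)
  have hQ' : pCore 2 ↥H = (P ⊓ cnj g P).subgroupOf H := by
    rw [← hcoreQ, Subgroup.subgroupOf, comap_map_eq_self_of_injective H.subtype_injective]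
  have hhalf : Nat.card P = 2 * Nat.card ↥(P ⊓ cnj g P) := by
    rw [← hcoreQ, card_map_of_injective H.subtype_injective,
      ← Nat.card_congr (Subgroup.subgroupOfEquivOfLe hPH).toEquiv]
    have h1 := (pCore 2 ↥H).subgroupOf (P.subgroupOf H) |>.card_mul_index
    rw [Nat.card_congr (Subgroup.subgroupOfEquivOfLe hQP').toEquiv] at h1
    have h2 : ((pCore 2 ↥H).subgroupOf (P.subgroupOf H)).index = 2 :=
      calc _ = π.ker.relIndex (P.subgroupOf H) := by rw [hπk]; rfl
        _ = 2 := by rw [Subgroup.relIndex_ker]; exact himg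
    rw [h2] at h1
    omega
  have hgen : H = P ⊔ cnj g P := by
    rw [hgP]
    have hle : P ⊔ cnj (d : G) P ≤ H := sup_le hPH fun u hu => by
      have := mul_mem (mul_mem d.2 (hPH (mem_cnj.1 hu))) (inv_mem d.2)
      simpa [mul_assoc] using this
    refine le_antisymm ?_ hle
    set L := (P ⊔ cnj (d : G) P).subgroupOf H with hL
    have hker : π.ker ≤ L := by
      rw [hπk]; exact fun q hq => mem_sup_left (hQP' hq)
    have h1 : π t ∈ L.map π := ⟨t, mem_sup_left htP, rfl⟩
    have h2 : π (d * t * d⁻¹) ∈ L.map π :=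
      ⟨_, mem_sup_right (by simpa using conj_mem_cnj (g := (d : G)) htP), rfl⟩
    have h3 : DihedralGroup.r (2 : ZMod n) ∈ L.map π := by
      have := mul_mem h2 h1
      rw [map_mul, map_mul, map_inv, hd, hti, DihedralGroup.inv_r, DihedralGroup.r_mul_sr,
        DihedralGroup.sr_mul_r, DihedralGroup.sr_mul_sr] at this
      convert this using 2
      ring
    have h4 : ∀ k : ℕ, DihedralGroup.r ((2 : ZMod n) * (k : ZMod n)) ∈ L.map π := by
      intro k
      induction k with
      | zero => simpa using one_mem _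
      | succ k ih =>
        have := mul_mem ih h3
        rw [DihedralGroup.r_mul_r] at this
        convert this using 2
        push_cast; ring
    have h5 : ∀ b : ZMod n, DihedralGroup.r b ∈ L.map π := by
      intro b
      obtain ⟨m, hm⟩ := hodd
      have := h4 ((m + 1) * b.val)
      convert this using 2
      have h6 := ZMod.natCast_self n
      rw [hm] at h6
      push_cast at h6 ⊢
      subst hm
      rw [ZMod.natCast_zmod_val]
      linear_combination (-b) * h6
    have htop : L.map π = ⊤ := by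
      rw [eq_top_iff']
      rintro (b | b)
      · exact h5 b
      · have := mul_mem (hti ▸ h1) (h5 (b - i))
        rwa [DihedralGroup.sr_mul_r, add_sub_cancel] at this
    intro u hu
    obtain ⟨v, hv, hvu⟩ := (htop ▸ mem_top (π ⟨u, hu⟩) : π ⟨u, hu⟩ ∈ L.map π)
    have : v⁻¹ * (⟨u, hu⟩ : ↥H) ∈ L := hker (by
      rw [MonoidHom.mem_ker, map_mul, map_inv, hvu, inv_mul_cancel])
    have := mul_mem hv this
    rwa [mul_inv_cancel_left] at this
  have hnorm : ∀ K : Subgroup G, K ≤ H → (∀ h ∈ H, ∀ k ∈ K, h * k * h⁻¹ ∈ K) →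
      (K.subgroupOf H).Normal := fun K _ hK => ⟨fun u hu k => hK k k.2 u hu⟩
  have hC : Ctx P H g y := by
    refine ⟨hP, hhalf, hgen, by simp [hg], ?_, ?_, hyP, ?_, ?_⟩
    · intro h hh q hq
      have := (hQ' ▸ (inferInstance : (pCore 2 ↥H).Normal) :
        ((P ⊓ cnj g P).subgroupOf H).Normal).conj_mem ⟨q, hPH hq.1⟩ hq ⟨h, hh⟩
      exact this
    · intro h
      exact hO (by rw [hQ', h, Subgroup.bot_subgroupOf])
    · let I : Subgroup G :=
        { carrier := {v | ∃ p ∈ P, ∀ u ∈ P, v * u * v⁻¹ = p * u * p⁻¹}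
          one_mem' := ⟨1, one_mem _, fun u _ => rfl⟩
          mul_mem' := by
            rintro v w ⟨p, hp, hv⟩ ⟨q, hq, hw⟩
            refine ⟨p * q, mul_mem hp hq, fun u hu => ?_⟩
            calc v * w * u * (v * w)⁻¹ = v * (w * u * w⁻¹) * v⁻¹ := by group
              _ = p * (q * u * q⁻¹) * p⁻¹ := by
                rw [hw u hu, hv _ (mul_mem (mul_mem hq hu) (inv_mem hq))]
              _ = _ := by group
          inv_mem' := by
            rintro v ⟨p, hp, hv⟩
            refine ⟨p⁻¹, inv_mem hp, fun u hu => ?_⟩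
            have := hv (p⁻¹ * u * p) (mul_mem (mul_mem (inv_mem hp) hu) hp)
            calc v⁻¹ * u * v⁻¹⁻¹ = v⁻¹ * (p * (p⁻¹ * u * p) * p⁻¹) * v := by group
              _ = v⁻¹ * (v * (p⁻¹ * u * p) * v⁻¹) * v := by rw [this]
              _ = _ := by group }
      have hle : P ⊔ centralizer (P : Set G) ≤ I := sup_le
        (fun p hp => ⟨p, hp, fun u _ => rfl⟩)
        (fun c hc => ⟨1, one_mem _, fun u hu => by
          rw [← mem_centralizer_iff.1 hc u hu, mul_inv_cancel_right]; group⟩)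
      intro u hu
      obtain ⟨p, hp, hpu⟩ := hle (pow_two y ▸ hy2)
      exact ⟨p, hp, hpu u hu⟩
    · intro K hKP hKn hKy
      exact hyQ K hKP (hnorm K (hKP.trans hPH) hKn) (by rw [smul_eq_cnj]; exact hKy)
  obtain ⟨x, s, a, D, hsa⟩ := hC.exists_params
  have hs2 : 2 ≤ s := by omega
  have hcardP : Nat.card P = 2 ^ s := by
    rw [← D.top, D.card 0 s (by omega) (by omega), Nat.sub_zero]
  have hcP : ∀ k < s, cx g x k ∈ P := fun k hk => D.top ▸ cx_mem_W (Nat.zero_le k) hk
  have hQW := D.q_eq hs2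
  set Q := pCore 2 ↥H with hQdef
  have hQmem : ∀ u : ↥H, u ∈ Q ↔ (u : G) ∈ W g x 1 s := fun u => by
    rw [hQ', mem_subgroupOf, hQW]
  have hQcard : Nat.card Q = 2 ^ (s - 1) := by
    have : (W g x 1 s).subgroupOf H = Q := by rw [hQ', hQW]
    rw [← this, Nat.card_congr (Subgroup.subgroupOfEquivOfLe
      ((hQW ▸ inf_le_left : W g x 1 s ≤ P).trans hPH)).toEquiv, D.card 1 s (by omega) (by omega)]
  have hSc : Nat.card ↥(S' : Subgroup ↥H) = 2 ^ s := by
    rw [hS', Nat.card_congr (Subgroup.subgroupOfEquivOfLe hPH).toEquiv, hcardP]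
  have hcentralP : ∀ k, 0 < k → k < a → s ≤ k + a → ∀ u : ↥H, (u : G) ∈ P →
      Commute (u : G) (cx g x k) := fun k _ hk hk2 u hu => by
    rw [← D.top] at hu
    exact (W_comm (fun l _ l2 => D.comm' k l (by omega) (by omega)) hu).symm
  have hout : ∀ u ∈ P, u ∉ W g x 1 s → cx g x 0 * u ∈ W g x 1 s := fun u hu hu' =>
    (half_cases (W_mono (by omega) le_rfl) (D.half_left (i := 0) (j := s) (by omega) (by omega))
      (cx_mem_W le_rfl (by omega)) (D.left_notMem (by omega) (by omega))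
      (D.top.symm ▸ hu)).resolve_left hu'
  rcases hsa with ⟨rfl, rfl⟩ | ⟨rfl, rfl⟩ | ⟨rfl, rfl⟩
  · -- order four
    refine ⟨Or.inl hcardP, Or.inl ?_⟩
    have hfc : ∀ u : ↥H, u * ⟨cx g x 1, hPH (hcP 1 (by omega))⟩ =
        ⟨cx g x 1, hPH (hcP 1 (by omega))⟩ * u := fun u => Subtype.ext
      (D.middle_central hC (cx_mem_W (by omega) (by omega)) u u.2).eq
    refine four_quotient S' hSc (fun u hu => Subtype.ext ?_) (f := ⟨cx g x 1, hPH (hcP 1 (by omega))⟩)
      (hcP 1 (by omega)) hfc ((signHom n).comp π) ?_ (t := t) htP ?_ ?_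
    · exact D.W_sq (i := 0) (j := 2) (by omega) (D.top.symm ▸ hu)
    · have : π ⟨cx g x 1, hPH (hcP 1 (by omega))⟩ = 1 := by
        rw [← MonoidHom.mem_ker, hπk, hQmem]; exact cx_mem_W le_rfl (by omega)
      simp [this]
    · rw [MonoidHom.comp_apply, hti]
      exact ofAdd_one_ne_one
    · intro h
      exact D.right_notMem (i := 1) (j := 1) le_rfl (by omega)
        (by rw [show cx g x 1 = 1 from congrArg Subtype.val h]; exact one_mem _)
  · -- order eight
    refine ⟨Or.inr (Or.inl hcardP), Or.inr (Or.inl ?_)⟩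
    obtain ⟨h, hh, hhc⟩ : ∃ h ∈ H, ¬ Commute h (cx g x 1) := by
      by_contra hcon
      push Not at hcon
      refine D.inner_not_normal hC le_rfl fun h hh k hk => ?_
      have : Commute h k := W_comm (fun l l1 l2 => by
        obtain rfl : l = 1 := by omega
        exact hcon h hh) hk
      rwa [this.eq, mul_inv_cancel_right]
    refine perm_four_quotient S' Q (CfsgLib.Cores.pCore_le_sylow S') (by rw [hQcard]; norm_num)
      (by rw [hSc]; norm_num) (fun q hq => Subtype.ext (D.W_sq (by omega) ((hQmem q).1 hq)))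
      (fun u hu huc => ?_) (z := ⟨cx g x 1, hPH (hcP 1 (by omega))⟩)
      ((hQmem _).2 (cx_mem_W le_rfl (by omega)))
      (fun u hu => Subtype.ext (hcentralP 1 (by omega) (by omega) (by omega) u hu).eq)
      (h := ⟨h, hh⟩) (fun e => hhc (congrArg Subtype.val e))
    rw [hQmem]
    by_contra hu'
    have h1 := hout u hu hu'
    refine D.ncomm (by omega) 0 ?_
    have h2 : Commute (cx g x 0 * u) (cx g x 2) :=
      D.W_comm_W (by omega) h1 (cx_mem_W (by omega) (by omega))
    have h3 : Commute ((u : G)) (cx g x 2) :=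
      (congrArg Subtype.val (mem_centralizer_iff.1 huc ⟨cx g x 2, hPH (hcP 2 (by omega))⟩
        ((hQmem _).2 (cx_mem_W (by omega) (by omega))))).symm
    have := h2.mul_left h3.inv_left
    rwa [mul_inv_cancel_right] at this
  · -- order sixteen
    refine ⟨Or.inr (Or.inr hcardP), Or.inr (Or.inr ?_)⟩
    set w := ⁅cx g x 0, cx g x 3⁆ with hw
    have hwm : w ∈ W g x 1 3 := D.w_mem (by omega)
    have hwP : w ∈ P := D.top ▸ W_mono (by omega) (by omega) hwm
    have hwc : ∀ u ∈ P, Commute u w := fun u hu => by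
      rw [← D.top] at hu
      exact (W_comm (fun l _ l2 => (W_comm (fun m m1 m2 => D.comm' l m (by omega) (by omega))
        hwm).symm) hu).symm
    have hw2 : w * w = 1 := D.W_sq (by omega) hwm
    have hgen4 : ∀ (Pr : G → Prop), Pr 1 → (∀ u v, u ∈ P → v ∈ P → Pr u → Pr v → Pr (u * v)) →
        (∀ u, u ∈ P → Pr u → Pr u⁻¹) → (∀ k < 4, Pr (cx g x k)) → ∀ u ∈ P, Pr u := by
      intro Pr h1 hmul hinv hgen u hu
      rw [← D.top] at hu
      induction hu using Subgroup.closure_induction with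
      | mem z hz => obtain ⟨k, ⟨-, hk⟩, rfl⟩ := hz; exact hgen k hk
      | one => exact h1
      | mul b c hb hc ihb ihc => exact hmul b c (D.top.le hb) (D.top.le hc) ihb ihc
      | inv b hb ihb => exact hinv b (D.top.le hb) ihb
    set N := zpowers w with hN
    have hNc : ∀ v ∈ N, ∀ u ∈ P, Commute u v := fun v hv u hu => by
      obtain ⟨j, rfl⟩ := mem_zpowers_iff.1 hv
      exact (hwc u hu).zpow_right j
    have hcomm : ∀ u ∈ P, ∀ v ∈ P, ⁅u, v⁆ ∈ N := by
      have aux : ∀ v ∈ P, (∀ k < 4, ⁅cx g x k, v⁆ ∈ N) → ∀ u ∈ P, ⁅u, v⁆ ∈ N := by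
        intro v hv hk
        refine hgen4 _ (by simp) (fun u u' hu hu' h1 h2 => ?_) (fun u hu h1 => ?_) hk
        · rw [show ⁅u * u', v⁆ = u * ⁅u', v⁆ * u⁻¹ * ⁅u, v⁆ by
            simp only [commutatorElement_def]; group, (hNc _ h2 u hu).eq, mul_inv_cancel_right]
          exact mul_mem h2 h1
        · rw [show ⁅u⁻¹, v⁆ = u⁻¹ * ⁅u, v⁆⁻¹ * u by simp only [commutatorElement_def]; group,
            mul_assoc, (hNc _ (inv_mem h1) u hu).symm.eq, inv_mul_cancel_left]
          exact inv_mem h1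
      have hgg : ∀ k < 4, ∀ l < 4, ⁅cx g x k, cx g x l⁆ ∈ N := by
        intro k hk l hl
        by_cases hc : k < l + 3 ∧ l < k + 3
        · rw [commutatorElement_eq_one_iff_mul_comm.2 (D.comm' k l (by omega) (by omega)).eq]
          exact one_mem _
        rcases (show (k = 0 ∧ l = 3) ∨ (k = 3 ∧ l = 0) by omega) with ⟨rfl, rfl⟩ | ⟨rfl, rfl⟩
        · exact mem_zpowers w
        · rw [← commutatorElement_inv]; exact inv_mem (mem_zpowers w)
      intro u hu v hv
      refine aux v hv (fun k hk => ?_) u hu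
      rw [← commutatorElement_inv, inv_mem_iff]
      exact aux _ (hcP k hk) (fun l hl => hgg l hl k hk) v hv
    have hsq : ∀ u ∈ P, u * u ∈ N := hgen4 _ (by simp)
      (fun u v hu hv h1 h2 => by
        have h3 := hcomm v hv u hu
        rw [show u * v * (u * v) = u * ⁅v, u⁆ * u * (v * v) by
          simp only [commutatorElement_def]; group, (hNc _ h3 u hu).eq, mul_assoc ⁅v, u⁆]
        exact mul_mem (mul_mem h3 h1) h2)
      (fun u _ h1 => by rw [← mul_inv_rev]; exact inv_mem h1)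
      (fun k _ => by rw [D.sq]; exact one_mem _)
    have hfP : cx g x 2 ∈ P := hcP 2 (by omega)
    have hfcent : ∀ h ∈ H, Commute h (cx g x 2) :=
      D.middle_central hC (cx_mem_W (by omega) (by omega))
    have hf1 : cx g x 2 ≠ 1 := fun h => D.right_notMem (i := 2) (j := 2) le_rfl (by omega)
      (h ▸ one_mem _)
    have hwf : cx g x 2 ∉ N := by
      intro hf
      have hwf' : w = cx g x 2 := by
        obtain ⟨j, hj⟩ := mem_zpowers_iff.1 hf
        rcases Int.even_or_odd j with ⟨l, rfl⟩ | ⟨l, rfl⟩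
        · rw [← two_mul, zpow_mul, zpow_two, hw2, one_zpow] at hj
          exact absurd hj.symm hf1
        · rwa [zpow_add, zpow_mul, zpow_two, hw2, one_zpow, one_mul, zpow_one] at hj
      have hNP : N ≤ P := zpowers_le.2 hwP
      have hcy : cnj y N = N := by
        refine eq_of_le_of_card_ge ?_ (by rw [card_cnj])
        rw [hN, cnj, map_le_iff_le_comap, zpowers_le, mem_comap, MulEquiv.coe_toMonoidHom,
          hw, map_commutatorElement]
        exact hcomm _ (hyP.le (conj_mem_cnj (hcP 0 (by omega)))) _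
          (hyP.le (conj_mem_cnj (hcP 3 (by omega))))
      have := hC.core N hNP (fun h hh k hk => by
        obtain ⟨j, rfl⟩ := mem_zpowers_iff.1 hk
        rw [hwf'] at hk ⊢
        rwa [((hfcent h hh).zpow_right j).eq, mul_inv_cancel_right]) hcy
      exact D.w_ne_one (by omega) 0 (mem_bot.1 (this ▸ mem_zpowers w) : _)
    -- a maximal subgroup avoiding the central involution
    let P' : Subgroup ↥H := (S' : Subgroup ↥H)
    let f : ↥H := ⟨cx g x 2, hPH hfP⟩
    let good : Subgroup ↥P' → Prop := fun L =>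
      (⟨⟨w, hPH hwP⟩, hwP⟩ : ↥P') ∈ L ∧ (⟨f, hfP⟩ : ↥P') ∉ L
    have hgood0 : good (zpowers (⟨⟨w, hPH hwP⟩, hwP⟩ : ↥P')) := ⟨mem_zpowers _, fun hm => by
      obtain ⟨j, hj⟩ := mem_zpowers_iff.1 hm
      exact hwf (mem_zpowers_iff.2 ⟨j, by simpa [f] using congrArg (fun u : ↥P' => ((u : ↥H) : G)) hj⟩)⟩
    obtain ⟨M, -, hM⟩ := Finite.exists_le_maximal hgood0
    have hinN : ∀ u : ↥P', ((u : ↥H) : G) ∈ N → u ∈ M := fun u hu => by
      obtain ⟨j, hj⟩ := mem_zpowers_iff.1 hu
      have e : (⟨⟨w, hPH hwP⟩, hwP⟩ : ↥P') ^ j = u := Subtype.ext (Subtype.ext (by simpa using hj))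
      exact e ▸ zpow_mem hM.1.1 j
    haveI hMn : M.Normal := ⟨fun u hu k => by
      have : k * u * k⁻¹ = ⁅k, u⁆ * u := by rw [commutatorElement_def]; group
      rw [this]
      exact mul_mem (hinN _ (hcomm _ k.2 _ u.2)) hu⟩
    have hMi : M.index = 2 := by
      rw [Subgroup.index_eq_two_iff]
      refine ⟨⟨f, hfP⟩, fun b => ?_⟩
      by_cases hb : b ∈ M
      · refine Or.inr ⟨hb, fun h => hM.1.2 ?_⟩
        have := mul_mem (inv_mem hb) h
        rwa [inv_mul_cancel_left] at this
      refine Or.inl ⟨?_, hb⟩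
      by_contra hbf
      refine hb (hM.2 (y := M ⊔ zpowers b) ⟨mem_sup_left hM.1.1, fun hm => ?_⟩ le_sup_left
        (mem_sup_right (mem_zpowers b)))
      rw [Subgroup.mem_sup_of_normal_left] at hm
      obtain ⟨m, hm1, c, hc, hmc⟩ := hm
      obtain ⟨j, rfl⟩ := mem_zpowers_iff.1 hc
      have hbb : b * b ∈ M := hinN _ (by simpa using hsq _ b.2)
      rcases Int.even_or_odd j with ⟨l, rfl⟩ | ⟨l, rfl⟩
      · rw [← two_mul, zpow_mul, zpow_two] at hmc
        exact hM.1.2 (hmc ▸ mul_mem hm1 (zpow_mem hbb l))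
      · apply hbf
        rw [zpow_add, zpow_mul, zpow_two, zpow_one] at hmc
        have hf2 : (⟨f, hfP⟩ : ↥P') * ⟨f, hfP⟩ = 1 := Subtype.ext (Subtype.ext (D.sq 2))
        have h5 : (m * (b * b) ^ l)⁻¹ * ⟨f, hfP⟩ = b := by
          generalize (b * b) ^ l = c at hmc ⊢
          rw [← hmc]; group
        have h6 : b * (⟨f, hfP⟩ : ↥P') = (m * (b * b) ^ l)⁻¹ := by
          calc b * (⟨f, hfP⟩ : ↥P') = (m * (b * b) ^ l)⁻¹ * ⟨f, hfP⟩ * ⟨f, hfP⟩ := by rw [h5]
            _ = _ := by rw [mul_assoc, hf2, mul_one]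
        rw [h6]
        exact inv_mem (mul_mem hm1 (zpow_mem hbb l))
    obtain ⟨h, hh, hhc⟩ : ∃ h ∈ H, ⁅h, cx g x 1⁆ ∉ zpowers (cx g x 2) := by
      by_contra hcon
      push Not at hcon
      refine D.inner_not_normal hC (by omega) fun h hh k hk => ?_
      have hle : cnj h (W g x 1 3) ≤ W g x 1 3 := by
        rw [cnj, map_le_iff_le_comap]
        refine W_le fun l l1 l2 => ?_
        rw [mem_comap, MulEquiv.coe_toMonoidHom, MulAut.conj_apply,
          show h * cx g x l * h⁻¹ = ⁅h, cx g x l⁆ * cx g x l by rw [commutatorElement_def]; group]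
        refine mul_mem ?_ (cx_mem_W l1 l2)
        rcases (show l = 1 ∨ l = 2 by omega) with rfl | rfl
        · exact (zpowers_le.2 (cx_mem_W (by omega) (by omega)) : _ ≤ W g x 1 3) (hcon h hh)
        · rw [commutatorElement_eq_one_iff_mul_comm.2 (hfcent h hh).eq]; exact one_mem _
      exact hle (conj_mem_cnj hk)
    have hzf : ∀ u : ↥H, u ∈ zpowers f ↔ (u : G) ∈ zpowers (cx g x 2) := fun u => by
      rw [mem_zpowers_iff, mem_zpowers_iff]
      exact exists_congr fun j => ⟨fun e => by simpa [f] using congrArg Subtype.val e,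
        fun e => Subtype.ext (by simpa [f] using e)⟩
    refine perm_four_prod_quotient S' Q (CfsgLib.Cores.pCore_le_sylow S') (by rw [hQcard]; norm_num)
      (by rw [hSc]; norm_num) (fun q hq => Subtype.ext (D.W_sq (by omega) ((hQmem q).1 hq)))
      (f := f) ((hQmem _).2 (cx_mem_W (by omega) (by omega))) (fun e => hf1 (congrArg Subtype.val e))
      (fun u => Subtype.ext (hfcent u u.2).eq) (fun u hu huq => ?_)
      (z := ⟨cx g x 1, hPH (hcP 1 (by omega))⟩)
      ((hQmem _).2 (cx_mem_W le_rfl (by omega)))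
      (fun u hu => Subtype.ext (hcentralP 1 (by omega) (by omega) (by omega) u hu).eq)
      (h := ⟨h, hh⟩) (fun e => hhc ?_) M hMi hM.1.2
    · rw [hQmem]
      by_contra hu'
      have h1 := hout u hu hu'
      have h2 := (hzf _).1 (huq ⟨cx g x 3, hPH (hcP 3 (by omega))⟩
        ((hQmem _).2 (cx_mem_W (by omega) (by omega))))
      set v := cx g x 0 * (u : G) with hv
      have hv3 : Commute v (cx g x 3) := D.W_comm_W (by omega) h1 (cx_mem_W (by omega) (by omega))
      have hu0 : (u : G) = (cx g x 0)⁻¹ * v := by rw [hv]; group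
      have e : ⁅(u : G), cx g x 3⁆ = w := by
        calc ⁅(u : G), cx g x 3⁆
            = (cx g x 0)⁻¹ * (v * cx g x 3) * v⁻¹ * cx g x 0 * (cx g x 3)⁻¹ := by
              rw [hu0, commutatorElement_def]; group
          _ = (cx g x 0)⁻¹ * (cx g x 3 * v) * v⁻¹ * cx g x 0 * (cx g x 3)⁻¹ := by rw [hv3.eq]
          _ = (cx g x 0)⁻¹ * cx g x 3 * cx g x 0 * (cx g x 3)⁻¹ := by group
          _ = w := by rw [hw, commutatorElement_def, D.inv_eq 0]
      have h3 : w ∈ zpowers (cx g x 2) := by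
        have : ((⁅u, ⟨cx g x 3, hPH (hcP 3 (by omega))⟩⁆ : ↥H) : G) = w := by
          rw [← e]; rfl
        rwa [this] at h2
      obtain ⟨j, hj⟩ := mem_zpowers_iff.1 h3
      have hf2 : cx g x 2 * cx g x 2 = 1 := D.sq 2
      rcases Int.even_or_odd j with ⟨l, rfl⟩ | ⟨l, rfl⟩
      · rw [← two_mul, zpow_mul, zpow_two, hf2, one_zpow] at hj
        exact D.w_ne_one (by omega) 0 hj.symm
      · rw [zpow_add, zpow_mul, zpow_two, hf2, one_zpow, one_mul, zpow_one] at hj
        exact hwf (hj ▸ mem_zpowers w)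
    · exact (hzf _).1 e

end CfsgLib.LocalEven.DihedralPushUp
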